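import Cfsg.Agent.Coprime.Generation
import Cfsg.Agent.Coprime.FpfElem
import Cfsg.Agent.Hall.ThreePrimes

/-!
Pairs of independent commuting elements of prime order, and groups without commuting triples
of elements of three distinct prime orders.
-/

set_option autoImplicit false

namespace Cfsg.Agent.H25.FourPrimes

open Subgroup
open scoped commutatorElement

variable {G : Type*} [Group G]

/-- Elements of equal prime order generate the same cyclic group once one is a power of the other. -/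
theorem mem_zpowers_symm [Finite G] {l : ℕ} (hl : l.Prime) {a b : G} (ha : orderOf a = l)
    (hb : b ^ l = 1) (hb1 : b ≠ 1) (h : b ∈ zpowers a) : a ∈ zpowers b := by
  have : Fact l.Prime := ⟨hl⟩
  have he : zpowers b = zpowers a :=
    eq_of_le_of_card_ge (zpowers_le.mpr h)
      (by rw [Nat.card_zpowers, Nat.card_zpowers, ha, orderOf_eq_prime hb hb1])
  rw [he]
  exact mem_zpowers a

theorem commute_of_mem_zpowers {a b c : G} (h : Commute a c) (hb : b ∈ zpowers a) : Commute b c := by
  obtain ⟨i, rfl⟩ := mem_zpowers_iff.mp hb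
  exact h.zpow_left i

theorem pow_eq_one_of_mem {l : ℕ} {a b : G} (ha : orderOf a = l) (hb : b ∈ zpowers a) : b ^ l = 1 := by
  obtain ⟨i, rfl⟩ := mem_zpowers_iff.mp hb
  rw [← zpow_natCast, ← zpow_mul, mul_comm, zpow_mul, zpow_natCast, ← ha, pow_orderOf_eq_one,
    one_zpow]

/-- Two independent commuting elements of order `l`. -/
structure Pair (l : ℕ) (a b : G) : Prop where
  ha : orderOf a = l
  hb : orderOf b = l
  comm : Commute a b
  indep : b ∉ zpowers a

/-- A generator of one of the lines of the plane spanned by `a` and `b`. -/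
def Line (a b c : G) : Prop := c = b ∨ ∃ i : ℕ, c = a * b ^ i

theorem Line.left (a b : G) : Line a b a := Or.inr ⟨0, by simp⟩

theorem Line.right (a b : G) : Line a b b := Or.inl rfl

theorem Line.mem {a b c : G} (h : Line a b c) {K : Subgroup G} (ha : a ∈ K) (hb : b ∈ K) : c ∈ K := by
  rcases h with rfl | ⟨i, rfl⟩
  exacts [hb, mul_mem ha (pow_mem hb i)]

theorem Line.commute {a b c d : G} (h : Line a b c) (ha : Commute a d) (hb : Commute b d) :
    Commute c d := by
  rcases h with rfl | ⟨i, rfl⟩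
  exacts [hb, ha.mul_left (hb.pow_left i)]

namespace Pair

variable [Finite G] {l : ℕ} {a b c : G}

theorem orderOf_line (h : Pair l a b) (hl : l.Prime) (hc : Line a b c) : orderOf c = l := by
  have : Fact l.Prime := ⟨hl⟩
  rcases hc with rfl | ⟨i, rfl⟩
  · exact h.hb
  refine orderOf_eq_prime ?_ fun he => h.indep ?_
  · have h1 : a ^ l = 1 := h.ha ▸ pow_orderOf_eq_one a
    have h2 : b ^ l = 1 := h.hb ▸ pow_orderOf_eq_one b
    rw [(h.comm.pow_right i).mul_pow, h1, ← pow_mul, mul_comm i, pow_mul, h2, one_pow, one_mul]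
  · have : a ∈ zpowers b := by
      rw [eq_inv_of_mul_eq_one_left he]
      exact inv_mem (pow_mem (mem_zpowers b) i)
    exact mem_zpowers_symm hl h.hb (h.ha ▸ pow_orderOf_eq_one a)
      (fun h1 => by have := h.ha; rw [h1, orderOf_one] at this; exact hl.one_lt.ne this) this

theorem swap (h : Pair l a b) (hl : l.Prime) : Pair l b a :=
  ⟨h.hb, h.ha, h.comm.symm, fun hab => h.indep (mem_zpowers_symm hl h.hb (h.ha ▸ pow_orderOf_eq_one a)
    (fun h1 => by have := h.ha; rw [h1, orderOf_one] at this; exact hl.one_lt.ne this) hab)⟩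

theorem coprime {W : Subgroup G} {m : ℕ} (hW : IsPGroup m W) (hm : m.Prime) (hl : l.Prime) (hne : l ≠ m) :
    l.Coprime (Nat.card W) := by
  have : Fact m.Prime := ⟨hm⟩
  obtain ⟨n, hn⟩ := IsPGroup.iff_card.mp hW
  rw [hn]
  exact ((Nat.coprime_primes hl hm).mpr hne).pow_right n

/-- Some line of the plane fixes a non-trivial element of an abelian group of coprime order. -/
theorem exists_fixed (h : Pair l a b) (hl : l.Prime) (W : Subgroup G) [IsMulCommutative W] (hW : W ≠ ⊥)
    (ha : a ∈ normalizer (W : Set G)) (hb : b ∈ normalizer (W : Set G))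
    (hco : l.Coprime (Nat.card W)) :
    ∃ c, Line a b c ∧ ∃ w ∈ W, w ≠ 1 ∧ Commute c w := by
  have : Fact l.Prime := ⟨hl⟩
  by_contra hno
  push Not at hno
  have key : ∀ c, Line a b c → ∀ w ∈ W, c * w * c⁻¹ = w → w = 1 := fun c hc w hw he => by
    by_contra hw1
    exact hno c hc w hw hw1 (mul_inv_eq_iff_eq_mul.mp he)
  refine hW (Coprime.eq_bot_of_fixed_point_free ha hb h.comm ?_ ?_ hco (key b (Line.right a b))
    fun i _ => key _ (Or.inr ⟨i, rfl⟩))
  · rw [← h.ha, pow_orderOf_eq_one]; exact one_mem _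
  · rw [← h.hb, pow_orderOf_eq_one]; exact one_mem _

/-- A group of coprime order is generated by the centralizers of the lines. -/
theorem generate (h : Pair l a b) (hl : l.Prime) (K M : Subgroup G)
    (ha : a ∈ normalizer (K : Set G)) (hb : b ∈ normalizer (K : Set G))
    (hco : l.Coprime (Nat.card K))
    (hM : ∀ c, Line a b c → ∀ k ∈ K, Commute c k → k ∈ M) : K ≤ M := by
  have : Fact l.Prime := ⟨hl⟩
  have hsup : zpowers a ⊔ zpowers b ≤ centralizer ({a, b} : Set G) := by
    refine sup_le (zpowers_le.mpr (mem_centralizer_iff.mpr ?_))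
      (zpowers_le.mpr (mem_centralizer_iff.mpr ?_))
    · rintro x (rfl | rfl)
      exacts [rfl, h.comm.symm.eq]
    · rintro x (rfl | rfl)
      exacts [h.comm.eq, rfl]
  have hcomm : IsMulCommutative ↥(zpowers a ⊔ zpowers b) := by
    refine ⟨⟨fun x y => Subtype.ext ?_⟩⟩
    have hy : zpowers a ⊔ zpowers b ≤ centralizer {(x : G)} := by
      refine sup_le (zpowers_le.mpr (mem_centralizer_singleton_iff.mpr ?_))
        (zpowers_le.mpr (mem_centralizer_singleton_iff.mpr ?_))
      · exact (mem_centralizer_iff.mp (hsup x.2) a (Or.inl rfl))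
      · exact (mem_centralizer_iff.mp (hsup x.2) b (Or.inr rfl))
    exact (mem_centralizer_singleton_iff.mp (hy y.2)).symm
  have hPA : IsPGroup l (zpowers a) := IsPGroup.of_card (n := 1) (by rw [Nat.card_zpowers, h.ha, pow_one])
  have hPB : IsPGroup l (zpowers b) := IsPGroup.of_card (n := 1) (by rw [Nat.card_zpowers, h.hb, pow_one])
  have hP : IsPGroup l ↥(zpowers a ⊔ zpowers b) := by
    refine hPA.to_sup_of_normal_right' hPB ?_
    refine le_trans ?_ (centralizer_le_normalizer _)
    refine zpowers_le.mpr (mem_centralizer_iff.mpr fun x hx => ?_)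
    exact (commute_of_mem_zpowers h.comm.symm hx).eq
  have hAK : zpowers a ⊔ zpowers b ≤ normalizer (K : Set G) := sup_le (zpowers_le.mpr ha) (zpowers_le.mpr hb)
  refine Coprime.le_of_centralizer_le (A := zpowers a ⊔ zpowers b) (p := l)
    (mem_sup_left (mem_zpowers a)) (mem_sup_right (mem_zpowers b)) K M hAK ?_ hco ?_ ?_ ?_ ?_
  · obtain ⟨n, hn⟩ := IsPGroup.iff_card.mp hP
    rw [hn]; exact hco.pow_left n
  · rw [← h.ha, pow_orderOf_eq_one]; exact one_mem _
  · rw [← h.hb, pow_orderOf_eq_one]; exact one_mem _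
  · exact fun k hk => hM b (Line.right a b) k hk.1 (mem_centralizer_singleton_iff.mp hk.2).symm
  · exact fun i _ k hk => hM _ (Or.inr ⟨i, rfl⟩) k hk.1 (mem_centralizer_singleton_iff.mp hk.2).symm

end Pair

/-- No three pairwise commuting elements have three distinct prime orders in `σ`. -/
def NoTriple (σ : Finset ℕ) (G : Type*) [Group G] : Prop :=
  ∀ p ∈ σ, ∀ q ∈ σ, ∀ r ∈ σ, p ≠ q → q ≠ r → p ≠ r → ∀ a b c : G, orderOf a = p → orderOf b = q →
    orderOf c = r → Commute a b → Commute a c → Commute b c → False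

/-- In a solvable group a centralizer of an element contains no elements of all three other primes. -/
theorem NoTriple.four [Finite G] [Group.IsSolvable G] {σ : Finset ℕ} (hT : NoTriple σ G)
    (hp : ∀ p ∈ σ, p.Prime) {l m n k : ℕ} (hl : l ∈ σ) (hm : m ∈ σ) (hn : n ∈ σ) (hk : k ∈ σ)
    (hlm : l ≠ m) (hln : l ≠ n) (hlk : l ≠ k) (hmn : m ≠ n) (hmk : m ≠ k) (hnk : n ≠ k) {a b c d : G}
    (ha : orderOf a = l) (hb : orderOf b = m) (hc : orderOf c = n) (hd : orderOf d = k)
    (hab : Commute a b) (hac : Commute a c) (had : Commute a d) : False := by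
  classical
  have : Group.IsSolvable (centralizer ({a} : Set G)) := inferInstance
  refine Hall.three_primes_false (G := centralizer ({a} : Set G)) {m, n, k}
    (le_of_eq (Finset.card_eq_three.mpr ⟨m, n, k, hmn, hmk, hnk, rfl⟩).symm) ?_ ?_
  · intro i hi
    simp only [Finset.mem_insert, Finset.mem_singleton] at hi
    have key : ∀ x : G, Commute a x → orderOf x ∣ Nat.card (centralizer ({a} : Set G)) := fun x hx =>
      (centralizer ({a} : Set G)).orderOf_dvd_natCard (mem_centralizer_singleton_iff.mpr hx.symm.eq)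
    rcases hi with rfl | rfl | rfl
    exacts [⟨hp _ hm, hb ▸ key b hab⟩, ⟨hp _ hn, hc ▸ key c hac⟩, ⟨hp _ hk, hd ▸ key d had⟩]
  · intro i hi j hj hij ⟨x, hx⟩
    have hx' : orderOf (x : G) = i * j := (Subgroup.orderOf_coe x).trans hx
    have hmem : i ∈ σ ∧ i ≠ l ∧ j ∈ σ ∧ j ≠ l := by
      simp only [Finset.mem_insert, Finset.mem_singleton] at hi hj
      rcases hi with rfl | rfl | rfl <;> rcases hj with rfl | rfl | rfl <;>
        simp_all [Ne.symm hlm, Ne.symm hln, Ne.symm hlk]
    have hax : Commute a x := (mem_centralizer_singleton_iff.mp x.2).symm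
    refine hT l hl i hmem.1 j hmem.2.2.1 (Ne.symm hmem.2.1) hij (Ne.symm hmem.2.2.2) a ((x : G) ^ j)
      ((x : G) ^ i) ha ?_ ?_ (hax.pow_right j) (hax.pow_right i) (Commute.pow_pow_self (x : G) j i)
    · rw [orderOf_pow' _ (hp j hmem.2.2.1).ne_zero, hx', Nat.gcd_eq_right (Dvd.intro_left i rfl),
        Nat.mul_div_cancel _ (hp j hmem.2.2.1).pos]
    · rw [orderOf_pow' _ (hp i hmem.1).ne_zero, hx', Nat.gcd_eq_right (Dvd.intro j rfl),
        Nat.mul_div_cancel_left _ (hp i hmem.1).pos]

/-- Hall–Higman: displacements of an element without fixed points centralize the module. -/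
theorem commutator_commute_module [Finite G] {r l p : ℕ} (hr : r.Prime) (hl : l.Prime) (hp : p.Prime)
    (hrl : r ≠ l) (hpr : p ≠ r) (hpl : p ≠ l) (W : Subgroup G) [IsMulCommutative W]
    (hexp : ∀ w ∈ W, w ^ r = 1) {t : G} (ht : orderOf t = l) (htW : t ∈ normalizer (W : Set G))
    (hfix : ∀ w ∈ W, Commute t w → w = 1) (K : Subgroup G) (hKp : IsPGroup p K)
    (hKW : K ≤ normalizer (W : Set G)) (htK : t ∈ normalizer (K : Set G))
    (hex : p ≠ 2 ∨ IsMulCommutative K) {k : G} (hk : k ∈ K) :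
    (∀ w ∈ W, Commute ⁅t, k⁆ w) ∧ ⁅t, k⁆ ∈ K := by
  have : Fact r.Prime := ⟨hr⟩
  have : Fact l.Prime := ⟨hl⟩
  have : Fact p.Prime := ⟨hp⟩
  have h := Coprime.FpfElem.commutator_le_centralizer' (l := r) (r := l) W hexp t
    (ht ▸ pow_orderOf_eq_one t) hrl htW hfix K hKW htK (fun s hs hsd => ?_)
    (commutator_mem_commutator (mem_zpowers t) hk)
  · refine ⟨fun w hw => (mem_centralizer_iff.mp h w hw).symm, ?_⟩
    rw [commutatorElement_def]
    exact mul_mem ((mem_normalizer_iff.mp htK k).mp hk) (inv_mem hk)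
  · obtain ⟨n, hn⟩ := IsPGroup.iff_card.mp hKp
    have : s = p := (Nat.prime_dvd_prime_iff_eq hs hp).mp (hs.dvd_of_dvd_pow (hn ▸ hsd))
    subst this
    exact ⟨hpr, hpl, hex.imp (fun h2 hh => h2 hh.1) id⟩

/-- An element of prime order `s` fixes every cyclic group of order `l` it normalizes, unless `s ∣ l - 1`. -/
theorem commute_of_not_dvd [Finite G] {l s : ℕ} (hl : l.Prime) (hs : s.Prime) (hdvd : ¬ s ∣ l - 1)
    {a t : G} (ha : orderOf a = l) (ht : orderOf t = s) (hta : t * a * t⁻¹ ∈ zpowers a) :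
    Commute t a := by
  have : Fact l.Prime := ⟨hl⟩
  obtain ⟨i, hi⟩ := mem_zpowers_iff.mp hta
  have hit : ∀ n : ℕ, t ^ n * a * (t ^ n)⁻¹ = a ^ (i ^ n) := by
    intro n
    induction n with
    | zero => simp
    | succ n ih =>
      calc t ^ (n + 1) * a * (t ^ (n + 1))⁻¹ = t * (t ^ n * a * (t ^ n)⁻¹) * t⁻¹ := by
            rw [pow_succ']; group
        _ = (t * a * t⁻¹) ^ (i ^ n) := by rw [ih, conj_zpow]
        _ = _ := by rw [← hi, ← zpow_mul, pow_succ']
  have hz : ∀ j k : ℤ, a ^ j = a ^ k ↔ (j : ZMod l) = k := fun j k => by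
    rw [zpow_eq_zpow_iff_modEq, ha, ← ZMod.intCast_eq_intCast_iff]
  have h1 : ((i : ZMod l)) ^ s = 1 := by
    have := hit s
    rw [← ht, pow_orderOf_eq_one, one_mul, inv_one, mul_one, ht] at this
    have := (hz 1 (i ^ s)).mp (by rw [zpow_one]; exact this)
    push_cast at this
    exact this.symm
  have h0 : (i : ZMod l) ≠ 0 := fun h => by
    rw [h, zero_pow hs.ne_zero] at h1
    exact zero_ne_one h1
  have h2 : (i : ZMod l) = 1 := by
    have hf : (i : ZMod l) ^ (l - 1) = 1 := ZMod.pow_card_sub_one_eq_one h0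
    have hco : s.Coprime (l - 1) := hs.coprime_iff_not_dvd.mpr hdvd
    have : (i : ZMod l) ^ Nat.gcd s (l - 1) = 1 := pow_gcd_eq_one.mpr ⟨h1, hf⟩
    rwa [hco.gcd_eq_one, pow_one] at this
  have h3 : t * a * t⁻¹ = a := by
    rw [← hi]
    have := (hz i 1).mpr (by simpa using h2)
    rwa [zpow_one] at this
  exact mul_inv_eq_iff_eq_mul.mp h3

end Cfsg.Agent.H25.FourPrimes
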