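import Cfsg.Agent.H25.FourPrimes.Basic
import Cfsg.Agent.Cores.Fitting
import Cfsg.Agent.PGroups.CyclicMaximal
import Cfsg.Agent.Components.PLocal
import Mathlib.NumberTheory.Basic

/-!
Cores of a solvable subgroup, `p`-groups with few elements of order `p`.
-/

set_option autoImplicit false

namespace Cfsg.Agent.H25.FourPrimes

open Subgroup
open scoped commutatorElement

variable {G : Type*} [Group G]

/-- The largest normal `l`-subgroup of the subgroup `H`. -/
def core (l : ℕ) (H : Subgroup G) : Subgroup G := (Cfsg.pCore l H).map H.subtype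

theorem core_le (l : ℕ) (H : Subgroup G) : core l H ≤ H := map_subtype_le _

theorem core_normalizer (l : ℕ) (H : Subgroup G) : H ≤ normalizer (core l H : Set G) := by
  have : (Cfsg.pCore l H).Normal := inferInstance
  intro h hh
  refine le_normalizer_map H.subtype ⟨⟨h, hh⟩, ?_, rfl⟩
  simp [normalizer_eq_top]

theorem conj_mem {K : Subgroup G} {g x : G} (hg : g ∈ normalizer (K : Set G)) (hx : x ∈ K) :
    g * x * g⁻¹ ∈ K := (mem_normalizer_iff.mp hg x).mp hx

theorem isPGroup_core [Finite G] (l : ℕ) [Fact l.Prime] (H : Subgroup G) : IsPGroup l (core l H) :=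
  (Cores.pCore_isPGroup).map _

theorem le_core [Finite G] {l : ℕ} [Fact l.Prime] {H K : Subgroup G} (hKH : K ≤ H)
    (hHK : H ≤ normalizer (K : Set G)) (hK : IsPGroup l K) : K ≤ core l H := by
  have : (K.subgroupOf H).Normal := (normal_subgroupOf_iff_le_normalizer hKH).mpr hHK
  intro x hx
  exact ⟨⟨x, hKH hx⟩, Cores.le_pCore (hK.of_equiv (subgroupOfEquivOfLe hKH).symm) hx, rfl⟩

/-- An element of prime order centralizing all cores lies in the core of its prime. -/
theorem mem_core_of_centralizes [Finite G] [Group.IsSolvable G] {H : Subgroup G} {l : ℕ} (hl : l.Prime)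
    {x : G} (hx : x ∈ H) (hxl : orderOf x = l)
    (hc : ∀ m : ℕ, m.Prime → ∀ k ∈ core m H, Commute x k) : x ∈ core l H := by
  have : Fact l.Prime := ⟨hl⟩
  have hC : (⟨x, hx⟩ : H) ∈ centralizer (Cfsg.fittingSubgroup H : Set H) := by
    have hle : Cfsg.fittingSubgroup H ≤ centralizer {(⟨x, hx⟩ : H)} := by
      rw [Cores.iSup_pCore_eq_fittingSubgroup]
      refine iSup_le fun m k hk => mem_centralizer_singleton_iff.mpr (Subtype.ext ?_)
      exact (hc m m.2 k ⟨k, hk, rfl⟩).symm.eq
    exact mem_centralizer_iff.mpr fun k hk => (mem_centralizer_singleton_iff.mp (hle hk))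
  have hF := Cores.centralizer_fittingSubgroup_le hC
  rw [Cores.iSup_pCore_eq_fittingSubgroup] at hF
  have hP : IsPGroup l (zpowers (⟨x, hx⟩ : H)) :=
    IsPGroup.of_card (n := 1) (by rw [Nat.card_zpowers, orderOf_mk, hxl, pow_one])
  have := Cores.le_pCore_of_le_sup hP
    (zpowers_le.mpr (Cores.iSup_pCore_le_sup l hF))
  exact ⟨⟨x, hx⟩, this (mem_zpowers _), rfl⟩

theorem eq_one_of_pgroups [Finite G] {p q : ℕ} (hp : p.Prime) (hq : q.Prime) (hpq : p ≠ q)
    {P Q : Subgroup G} (hP : IsPGroup p P) (hQ : IsPGroup q Q) {x : G} (hxP : x ∈ P) (hxQ : x ∈ Q) :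
    x = 1 := by
  have : Fact p.Prime := ⟨hp⟩
  have : Fact q.Prime := ⟨hq⟩
  have := IsPGroup.disjoint_of_ne p q hpq P Q hP hQ
  exact Subgroup.mem_bot.mp (this.eq_bot ▸ ⟨hxP, hxQ⟩)

/-- Cores for different primes commute. -/
theorem commute_core [Finite G] {p q : ℕ} (hp : p.Prime) (hq : q.Prime) (hpq : p ≠ q) {H : Subgroup G}
    {a b : G} (ha : a ∈ core p H) (hb : b ∈ core q H) : Commute a b := by
  have : Fact p.Prime := ⟨hp⟩
  have : Fact q.Prime := ⟨hq⟩
  refine commutatorElement_eq_one_iff_commute.mp (eq_one_of_pgroups hp hq hpq (isPGroup_core p H)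
    (isPGroup_core q H) ?_ ?_)
  · rw [commutatorElement_def, show a * b * a⁻¹ * b⁻¹ = a * (b * a⁻¹ * b⁻¹) by group]
    exact mul_mem ha (conj_mem (core_normalizer p H (core_le q H hb)) (inv_mem ha))
  · rw [commutatorElement_def]
    exact mul_mem (conj_mem (core_normalizer q H (core_le p H ha)) hb) (inv_mem hb)

/-- A `p`-group, `p` odd, with one subgroup of order `p` is cyclic. -/
theorem exists_gen_of_unique [Finite G] {p : ℕ} [hp : Fact p.Prime] (hp2 : p ≠ 2) {P : Subgroup G}
    (hP : IsPGroup p P) {a : G} (ha : orderOf a = p)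
    (hu : ∀ x ∈ P, x ^ p = 1 → x ∈ zpowers a) : ∃ c ∈ P, ∀ x ∈ P, x ∈ zpowers c := by
  by_cases hc : IsCyclic P
  · obtain ⟨c, hc⟩ := hc.exists_generator
    refine ⟨c, c.2, fun x hx => ?_⟩
    obtain ⟨i, hi⟩ := mem_zpowers_iff.mp (hc ⟨x, hx⟩)
    exact ⟨i, congrArg Subtype.val hi⟩
  exfalso
  obtain ⟨B, -, -, hB, hcard⟩ := PGroups.exists_normal_elementary_sq hP hp2 hc
  have hle : Nat.card (B.map P.subtype) ≤ Nat.card (zpowers a) := by
    refine Subgroup.card_le_of_le ?_
    rintro _ ⟨x, hx, rfl⟩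
    exact hu x x.2 (by simpa using congrArg Subtype.val (hB x hx))
  rw [card_map_of_injective P.subtype_injective, hcard, Nat.card_zpowers, ha] at hle
  have := hp.out.two_le
  nlinarith

/-- A coprime element centralizing the elements of order `p` of a cyclic `p`-group centralizes it. -/
theorem commute_cyclic [Finite G] {p s : ℕ} (hp : p.Prime) (hs : s.Prime) (hsp : s ≠ p) {P : Subgroup G}
    (hP : IsPGroup p P) {c t : G} (hc : c ∈ P) (hgen : ∀ x ∈ P, x ∈ zpowers c)
    (htP : t ∈ normalizer (P : Set G)) (ht : orderOf t = s)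
    (hfix : ∀ x ∈ P, x ^ p = 1 → Commute t x) : ∀ x ∈ P, Commute t x := by
  have : Fact p.Prime := ⟨hp⟩
  suffices h : Commute t c from fun x hx => (commute_of_mem_zpowers h.symm (hgen x hx)).symm
  obtain ⟨e, he⟩ := IsPGroup.iff_orderOf.mp hP ⟨c, hc⟩
  rw [orderOf_mk] at he
  cases e with
  | zero =>
    rw [pow_zero] at he
    rw [orderOf_eq_one_iff.mp he]
    exact Commute.one_right t
  | succ e =>
    obtain ⟨i, hi⟩ := mem_zpowers_iff.mp (hgen _ (conj_mem htP hc))
    have hit : ∀ n : ℕ, t ^ n * c * (t ^ n)⁻¹ = c ^ (i ^ n) := by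
      intro n
      induction n with
      | zero => simp
      | succ n ih =>
        calc t ^ (n + 1) * c * (t ^ (n + 1))⁻¹ = t * (t ^ n * c * (t ^ n)⁻¹) * t⁻¹ := by
              rw [pow_succ']; group
          _ = (t * c * t⁻¹) ^ (i ^ n) := by rw [ih, conj_zpow]
          _ = _ := by rw [← hi, ← zpow_mul, pow_succ']
    -- the exponent is `1` modulo `p`
    have hd : (p : ℤ) ∣ i - 1 := by
      have hx : (c ^ p ^ e) ^ p = 1 := by rw [← pow_mul, ← pow_succ, ← he, pow_orderOf_eq_one]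
      have hxo : orderOf (c ^ p ^ e) = p := by
        rw [orderOf_pow' c (pow_ne_zero _ hp.ne_zero), he, Nat.gcd_eq_right (pow_dvd_pow p (Nat.le_succ e)),
          pow_succ, Nat.mul_div_cancel_left _ (pow_pos hp.pos e)]
      have h1 : t * c ^ p ^ e * t⁻¹ = c ^ p ^ e := by
        rw [(hfix _ (pow_mem hc _) hx).eq, mul_inv_cancel_right]
      have h2 : t * c ^ p ^ e * t⁻¹ = (c ^ p ^ e) ^ i := by
        rw [← conj_pow, ← hi, ← zpow_natCast, ← zpow_mul, mul_comm, zpow_mul, zpow_natCast]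
      have := (h1.symm.trans h2)
      rw [← hxo]
      refine orderOf_dvd_iff_zpow_eq_one.mpr ?_
      rw [zpow_sub, ← this, zpow_one, mul_inv_cancel]
    have h3 : Commute (t ^ p ^ e) c := by
      have hd2 := dvd_sub_pow_of_dvd_sub (R := ℤ) hd e
      rw [one_pow] at hd2
      have : c ^ (i ^ p ^ e) = c ^ (1 : ℤ) := by
        rw [zpow_eq_zpow_iff_modEq, he, Int.modEq_iff_dvd]
        rw [← dvd_neg, neg_sub]
        exact_mod_cast hd2
      rw [zpow_one] at this
      exact mul_inv_eq_iff_eq_mul.mp ((hit (p ^ e)).trans this)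
    obtain ⟨m, hm⟩ := exists_pow_eq_self_of_coprime (x := t) (n := p ^ e)
      (by rw [ht]; exact (((Nat.coprime_primes hs hp).mpr hsp).pow_right e).symm)
    rw [← hm]
    exact h3.pow_left m

/-- In a finite group, outside a central subgroup `⟨a⟩` of a `p`-group containing all its central elements
of order `p`, some element of order `p` is conjugate to all of its translates by `a`. -/
theorem exists_shift [Finite G] {p : ℕ} [hp : Fact p.Prime] {P : Subgroup G} (hP : IsPGroup p P) {a : G}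
    (ha : orderOf a = p) (hca : ∀ g ∈ P, Commute g a)
    (hZ : ∀ x ∈ P, x ^ p = 1 → (∀ g ∈ P, Commute g x) → x ∈ zpowers a) {x₀ : G} (hx₀ : x₀ ∈ P)
    (hx₀p : x₀ ^ p = 1) (hx₀a : x₀ ∉ zpowers a) :
    ∃ x ∈ P, orderOf x = p ∧ x ∉ zpowers a ∧ Commute x a ∧
      ∀ i : ℕ, ∃ g ∈ P, g * x * g⁻¹ = x * a ^ i := by
  classical
  have hex : ∃ n, ∃ x : P, (x : G) ^ p = 1 ∧ (x : G) ∉ zpowers a ∧
      Nat.card (normalClosure ({x} : Set P)) = n := ⟨_, ⟨x₀, hx₀⟩, hx₀p, hx₀a, rfl⟩
  obtain ⟨x, hxp, hxa, hxn⟩ := Nat.find_spec hex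
  have hx1 : (x : G) ≠ 1 := fun h => hxa (h ▸ one_mem _)
  have hCne : centralizer ({x} : Set P) < ⊤ := by
    refine lt_of_le_of_ne le_top fun h => hxa (hZ _ x.2 hxp fun g hg => ?_)
    exact congrArg Subtype.val (mem_centralizer_singleton_iff.mp
      (show (⟨g, hg⟩ : P) ∈ centralizer {x} from h ▸ mem_top _))
  have : Group.IsNilpotent P := hP.isNilpotent
  obtain ⟨y, hy, hyx⟩ := SetLike.exists_of_lt (Group.normalizerCondition_of_isNilpotent _ hCne)
  set N := normalClosure ({x} : Set P) with hN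
  have hxN : x ∈ N := subset_normalClosure (Set.mem_singleton x)
  set w := ⁅y, x⁆ with hw
  have hcomm : Commute (y * x * y⁻¹) x := by
    have hxC : x ∈ centralizer ({x} : Set P) := mem_centralizer_singleton_iff.mpr rfl
    exact mem_centralizer_singleton_iff.mp ((mem_normalizer_iff.mp hy x).mp hxC)
  have hwp : (w : G) ^ p = 1 := by
    have h : w ^ p = 1 := by
      rw [hw, commutatorElement_def, hcomm.inv_right.mul_pow, conj_pow, inv_pow,
        show x ^ p = 1 from Subtype.ext (by simpa using hxp)]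
      simp
    simpa using congrArg Subtype.val h
  have hw1 : w ≠ 1 := fun h => hyx (mem_centralizer_singleton_iff.mpr
    (commutatorElement_eq_one_iff_mul_comm.mp h))
  have hNne : N ≠ ⊥ := fun h => hx1 (by
    rw [h, mem_bot] at hxN
    rw [hxN, OneMemClass.coe_one])
  have hwN : w ∈ ⁅N, (⊤ : Subgroup P)⁆ := by
    rw [commutator_comm]; exact commutator_mem_commutator (mem_top y) hxN
  have hwa : (w : G) ∈ zpowers a := by
    by_contra hwa
    have hlt : ⁅N, (⊤ : Subgroup P)⁆ < N := Coprime.commutator_lt_of_isPGroup (p := p)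
      (hP.to_subgroup N) (hP.to_subgroup ⊤) (le_normalizer_iff.mpr fun g _ m hm => (inferInstance : N.Normal).conj_mem m hm g) hNne
    have h1 : Nat.card (normalClosure ({w} : Set P)) < Nat.card N := by
      refine lt_of_le_of_lt (Subgroup.card_le_of_le (normalClosure_le_normal
        (Set.singleton_subset_iff.mpr hwN))) ?_
      exact lt_of_le_of_ne (Subgroup.card_le_of_le hlt.le) fun he =>
        hlt.ne (eq_of_le_of_card_ge hlt.le he.ge)
    exact Nat.find_min hex (hxn ▸ h1) ⟨w, hwp, hwa, rfl⟩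
  have hconj : (y : G) * x * (y : G)⁻¹ = x * w := by
    have h1 : Commute (x : G) a := hca x x.2
    rw [(commute_of_mem_zpowers h1.symm hwa).symm.eq, hw]
    simp [commutatorElement_def]
  have haw : a ∈ zpowers (w : G) := mem_zpowers_symm hp.out ha hwp
    (fun h => hw1 (Subtype.ext (by simpa using h))) hwa
  refine ⟨x, x.2, orderOf_eq_prime hxp hx1, hxa, hca x x.2, fun i => ?_⟩
  obtain ⟨j, hj⟩ := (IsOfFinOrder.mem_powers_iff_mem_zpowers (isOfFinOrder_of_finite (w : G))).mpr haw
  have hj' : (w : G) ^ j = a := hj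
  refine ⟨(y : G) ^ (j * i), pow_mem y.2 _, ?_⟩
  have key : ∀ n : ℕ, (y : G) ^ n * x * ((y : G) ^ n)⁻¹ = x * (w : G) ^ n := by
    intro n
    induction n with
    | zero => simp
    | succ n ih =>
      calc (y : G) ^ (n + 1) * x * ((y : G) ^ (n + 1))⁻¹
          = y * ((y : G) ^ n * x * ((y : G) ^ n)⁻¹) * (y : G)⁻¹ := by rw [pow_succ']; group
        _ = (y * x * (y : G)⁻¹) * (y * (w : G) ^ n * (y : G)⁻¹) := by rw [ih]; group
        _ = (x * w) * (w : G) ^ n := by
          have hyw : Commute (y : G) ((w : G) ^ n) :=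
            ((commute_of_mem_zpowers (hca y y.2).symm hwa).symm).pow_right n
          rw [hconj, hyw.eq, mul_inv_cancel_right]
        _ = _ := by rw [mul_assoc, ← pow_succ']
  rw [key, pow_mul, hj']

/-- With `a` fixed-point-free on `W`, an element conjugate to all its translates by `a` fixes a vector. -/
theorem fixed_of_shift [Finite G] {p : ℕ} (hp : p.Prime) {x a : G} (h : Pair p x a) {W : Subgroup G}
    [IsMulCommutative W] [hWn : W.Normal] (hW : W ≠ ⊥) (hco : p.Coprime (Nat.card W))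
    (hfix : ∀ w ∈ W, Commute a w → w = 1) (hsh : ∀ i : ℕ, ∃ g : G, g * x * g⁻¹ = x * a ^ i) :
    ∃ w ∈ W, w ≠ 1 ∧ Commute x w := by
  have hn : ∀ g : G, g ∈ normalizer (W : Set G) := fun g => by rw [normalizer_eq_top]; trivial
  obtain ⟨c, hc, w, hw, hw1, hcw⟩ := h.exists_fixed hp W hW (hn x) (hn a) hco
  rcases hc with rfl | ⟨i, rfl⟩
  · exact absurd (hfix w hw hcw) hw1
  obtain ⟨g, hg⟩ := hsh i
  refine ⟨g⁻¹ * w * g, ?_, fun h1 => hw1 ?_, ?_⟩
  · have := hWn.conj_mem w hw g⁻¹
    rwa [inv_inv] at this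
  · calc w = g * (g⁻¹ * w * g) * g⁻¹ := by group
      _ = 1 := by rw [h1]; group
  · rw [← hg] at hcw
    show x * (g⁻¹ * w * g) = g⁻¹ * w * g * x
    calc x * (g⁻¹ * w * g) = g⁻¹ * ((g * x * g⁻¹) * w) * g := by group
      _ = g⁻¹ * (w * (g * x * g⁻¹)) * g := by rw [hcw.eq]
      _ = _ := by group

end Cfsg.Agent.H25.FourPrimes
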