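import Cfsg.Agent.H25.FourPrimes.OneRank
import Cfsg.Agent.Thompson.Replacement
import Cfsg.Agent.PGroups.NormalSq

/-!
The end of the faithful case: both cores are cyclic, which is impossible.
-/

set_option autoImplicit false
set_option linter.unusedSectionVars false

namespace Cfsg.Agent.H25.FourPrimes

open Subgroup
open scoped commutatorElement

variable {G : Type*} [Group G] [Finite G] [Group.IsSolvable G]

theorem ne_one_of_orderOf {p : ℕ} (hp : p.Prime) {a : G} (ha : orderOf a = p) : a ≠ 1 := fun h => by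
  rw [h, orderOf_one] at ha; exact hp.one_lt.ne ha

/-- An element centralizing all cores lies in their join. -/
theorem mem_sup_of_centralizes {p q : ℕ} {H : Subgroup G} {u : G} (hu : u ∈ H)
    (hS : ∀ m : ℕ, m.Prime → core m H ≤ core p H ⊔ core q H)
    (hc : ∀ m : ℕ, m.Prime → ∀ k ∈ core m H, Commute u k) : u ∈ core p H ⊔ core q H := by
  have hC : (⟨u, hu⟩ : H) ∈ centralizer (Cfsg.fittingSubgroup H : Set H) := by
    have hle : Cfsg.fittingSubgroup H ≤ centralizer {(⟨u, hu⟩ : H)} := by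
      rw [Cores.iSup_pCore_eq_fittingSubgroup]
      refine iSup_le fun m k hk => mem_centralizer_singleton_iff.mpr (Subtype.ext ?_)
      exact (hc m m.2 k ⟨k, hk, rfl⟩).symm.eq
    exact mem_centralizer_iff.mpr fun k hk => (mem_centralizer_singleton_iff.mp (hle hk))
  have hF := mem_map_of_mem H.subtype (Cores.centralizer_fittingSubgroup_le hC)
  rw [Cores.iSup_pCore_eq_fittingSubgroup, Subgroup.map_iSup] at hF
  exact iSup_le (fun m : Nat.Primes => hS m m.2) hF

namespace One

variable {σ S : Finset ℕ} {H V : Subgroup G} {r : ℕ} (s : One σ S H V r)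
include s

/-- The central elements of order `p` of a non-trivial core. -/
theorem core_center {p : ℕ} (hp : p ∈ S) (hne : core p H ≠ ⊥) :
    ∃ a ∈ core p H, orderOf a = p ∧ Fix a V ∧ p ≠ 2 ∧ Elem p H (zpowers a) ∧
      (∀ g ∈ core p H, Commute g a) ∧
      ∀ x ∈ core p H, x ^ p = 1 → (∀ g ∈ core p H, Commute g x) → x ∈ zpowers a := by
  have hpP := s.primeS hp
  have : Fact p.Prime := ⟨hpP⟩
  obtain ⟨Z, hZle, hHZ, hZc, hZexp, hZcent, hZmem, hZne⟩ := exists_omega_center p H
  obtain ⟨a, haZ, hao⟩ := hZne hne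
  have ha1 := ne_one_of_orderOf hpP hao
  have hElem : Elem p H Z := ⟨hZle.trans (core_le p H), hHZ, hZc, hZexp, fun h => ha1 (mem_bot.mp (h ▸ haZ))⟩
  have hZa : ∀ z ∈ Z, z ∈ zpowers a := fun z hz => s.elem_cyclic hp hElem haZ ha1 hz
  have hZeq : Z = zpowers a := le_antisymm hZa (zpowers_le.mpr haZ)
  subst hZeq
  have haH : a ∈ H := core_le p H (hZle haZ)
  obtain ⟨l, hl, m, hm, hlp, hmp, hlm⟩ := s.exists_others hp
  have line : ∀ k ∈ S, k ≠ p → ∃ c ∈ H, orderOf c = k ∧ Commute c a := fun k hk hkp => by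
    obtain ⟨e, he, f, hf, hef⟩ := s.exists_pair hk (s.hindex k hk) (s.hdvd k hk)
    obtain ⟨c, hc, hca⟩ := hef.exists_commute_line (s.primeS hk) hpP hkp hao (hHZ he) (hHZ hf)
    exact ⟨c, hc.mem he hf, hef.orderOf_line (s.primeS hk) hc, hca⟩
  obtain ⟨c, -, hco, hca⟩ := line l hl hlp
  obtain ⟨d, -, hdo, hda⟩ := line m hm hmp
  refine ⟨a, hZle haZ, hao, fun v hv hav => ?_, fun h2 => ?_, hElem, hZcent a haZ,
    fun x hx hxp hxc => hZa x (hZmem x hx hxp hxc)⟩
  · by_contra hv1
    exact s.triple.four s.prime (s.sub hp) (s.sub hl) (s.sub hm) s.rmem hlp.symm hmp.symm (s.neV hp) hlm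
      (s.neV hl) (s.neV hm) hao hco hdo (s.hV.orderOf_mem (s.prime r s.rmem) hv hv1) hca.symm hda.symm hav
  · obtain ⟨y, hy, z, hz, hyo, hzo, hyz⟩ := s.pairs l hl m hm hlm
    have key : ∀ k : ℕ, k ∈ S → k ≠ p → ∀ g ∈ H, orderOf g = k → Commute g a := fun k hk hkp g hg hgo => by
      refine commute_of_not_dvd hpP (s.primeS hk) ?_ hao hgo (conj_mem (hHZ hg) (mem_zpowers a))
      rw [h2]
      exact (s.primeS hk).not_dvd_one
    exact s.triple3 hl hm hp hlm hmp hlp hyo hzo hao hyz (key l hl hlp y hy hyo) (key m hm hmp z hz hzo)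

theorem core_odd {m : ℕ} (hm : m ∈ S) {k : G} (hk : k ∈ core m H) (hk1 : k ≠ 1) : m ≠ 2 := by
  obtain ⟨-, -, -, -, h, -⟩ := s.core_center hm (fun h => hk1 (mem_bot.mp (h ▸ hk)))
  exact h

/-- An element without fixed vectors lies over a non-trivial core. -/
theorem core_ne_bot_of_fix {l : ℕ} (hl : l ∈ S) {y : G} (hy : y ∈ H) (hyo : orderOf y = l) (hyV : Fix y V) :
    core l H ≠ ⊥ := by
  intro hbot
  have hc := mem_core_of_centralizes (s.primeS hl) hy hyo (s.commute_core fun m hm k hk => ?_)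
  · rw [hbot, mem_bot] at hc
    exact ne_one_of_orderOf (s.primeS hl) hyo hc
  · have : Fact m.Prime := ⟨s.primeS hm⟩
    rcases eq_or_ne m l with rfl | hml
    · rw [hbot, mem_bot] at hk
      rw [hk]; exact Commute.one_right y
    rcases eq_or_ne k 1 with rfl | hk1
    · exact Commute.one_right y
    exact s.fpf_central hl hm hml hyo hyV (core_le m H) (isPGroup_core m H) (core_normalizer m H hy)
      (Or.inl (s.core_odd hm hk hk1)) k hk

/-- A non-trivial core is cyclic when another core is non-trivial. -/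
theorem core_gen {p q n : ℕ} (hp : p ∈ S) (hq : q ∈ S) (hn : n ∈ S) (hpq : p ≠ q) (hpn : p ≠ n) (hqn : q ≠ n)
    (hcp : core p H ≠ ⊥) (hcq : core q H ≠ ⊥) : ∃ c ∈ core p H, ∀ x ∈ core p H, x ∈ zpowers c := by
  have hpP := s.primeS hp
  have hnP := s.primeS hn
  have hqP := s.primeS hq
  have : Fact p.Prime := ⟨hpP⟩
  obtain ⟨a, haC, hao, haV, hp2, haE, hac, haZ⟩ := s.core_center hp hcp
  obtain ⟨b, hbC, hbo, hbV, -, hbE, -, -⟩ := s.core_center hq hcq
  set P := core p H with hP
  have hPp : IsPGroup p P := isPGroup_core p H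
  refine exists_gen_of_unique hp2 hPp hao fun x₀ hx₀ hx₀p => ?_
  by_contra hx₀a
  have hnc : ¬ IsCyclic P := fun hcyc => by
    obtain ⟨c, hc⟩ := hcyc.exists_generator
    refine hx₀a (haZ x₀ hx₀ hx₀p fun g hg => ?_)
    obtain ⟨i, hi⟩ := mem_zpowers_iff.mp (hc ⟨g, hg⟩)
    obtain ⟨j, hj⟩ := mem_zpowers_iff.mp (hc ⟨x₀, hx₀⟩)
    exact congrArg Subtype.val (show Commute (⟨g, hg⟩ : P) ⟨x₀, hx₀⟩ from
      hi ▸ hj ▸ Commute.zpow_zpow_self c i j).eq
  obtain ⟨B, hBn, hBc, hBexp, hBcard⟩ := PGroups.exists_normal_elementary_sq hPp hp2 hnc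
  let M : Subgroup G :=
    { carrier := {x | x ∈ P ∧ x ^ p = 1 ∧ ∀ g ∈ P, ⁅x, g⁆ ∈ zpowers a}
      one_mem' := ⟨one_mem _, one_pow _, fun g _ => by rw [commutatorElement_one_left]; exact one_mem _⟩
      mul_mem' := fun {x y} hx hy => by
        have hcent : ∀ w ∈ zpowers a, ∀ g ∈ P, Commute w g := fun w hw g hg =>
          commute_of_mem_zpowers (hac g hg).symm hw
        refine ⟨P.mul_mem hx.1 hy.1, ?_, fun g hg => ?_⟩
        · have h := hy.2.2 x hx.1
          rw [Thompson.mul_pow_class_two (hcent _ h x hx.1) (hcent _ h y hy.1), hx.2.1, hy.2.1, mul_one, mul_one]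
          obtain ⟨j, hj⟩ := hpP.dvd_choose_self two_ne_zero (lt_of_le_of_ne hpP.two_le (Ne.symm hp2))
          rw [hj, pow_mul, pow_eq_one_of_mem hao h, one_pow]
        · rw [commutatorElement_mul_left_eq_conj_mul, (hcent _ (hy.2.2 g hg) x hx.1).symm.eq, mul_inv_cancel_right]
          exact mul_mem (hy.2.2 g hg) (hx.2.2 g hg)
      inv_mem' := fun {x} hx => ⟨inv_mem hx.1, by rw [inv_pow, hx.2.1, inv_one], fun g hg => by
        have h := hx.2.2 g hg
        have e : ⁅x⁻¹, g⁆ = x⁻¹ * ⁅x, g⁆⁻¹ * x := by simp only [commutatorElement_def]; group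
        rw [e, mul_assoc, ((commute_of_mem_zpowers (hac x hx.1).symm (inv_mem h))).eq, ← mul_assoc,
          inv_mul_cancel, one_mul]
        exact inv_mem h⟩ }
  have hMH : H ≤ normalizer (M : Set G) := by
    refine le_normalizer_iff.mpr fun h hh x hx => ⟨conj_mem (core_normalizer p H hh) hx.1, ?_, fun g hg => ?_⟩
    · rw [conj_pow, hx.2.1, mul_one, mul_inv_cancel]
    · have hg' := conj_mem (core_normalizer p H (inv_mem hh)) hg
      rw [inv_inv] at hg'
      have e : ⁅h * x * h⁻¹, g⁆ = h * ⁅x, h⁻¹ * g * h⁆ * h⁻¹ := by simp only [commutatorElement_def]; group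
      rw [e]
      exact conj_mem (haE.norm hh) (hx.2.2 _ hg')
  obtain ⟨x₁, hx₁M, hx₁a⟩ : ∃ x ∈ M, x ∉ zpowers a := by
    by_contra hno
    push Not at hno
    have hBlt : ⁅B, (⊤ : Subgroup P)⁆ < B := Coprime.commutator_lt_of_isPGroup (p := p)
      (hPp.to_subgroup B) (hPp.to_subgroup ⊤)
      (le_normalizer_iff.mpr fun g _ w hw => hBn.conj_mem w hw g)
      (fun h => by rw [h, card_bot] at hBcard; have := hpP.two_le; nlinarith)
    set W := ⁅B, (⊤ : Subgroup P)⁆ with hW
    have hWn : W.Normal := commutator_normal _ _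
    have hWcard : Nat.card W ≤ p := by
      obtain ⟨j, hj⟩ := IsPGroup.iff_card.mp (hPp.to_subgroup W)
      have hlt : Nat.card W < p ^ 2 := hBcard ▸ lt_of_le_of_ne (Subgroup.card_le_of_le hBlt.le)
        (fun he => hBlt.ne (eq_of_le_of_card_ge hBlt.le he.ge))
      rw [hj] at hlt ⊢
      have := (Nat.pow_lt_pow_iff_right hpP.one_lt).mp hlt
      calc p ^ j ≤ p ^ 1 := Nat.pow_le_pow_right hpP.pos (by omega)
        _ = p := pow_one p
    have hWcent : ⁅W, (⊤ : Subgroup P)⁆ = ⊥ := by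
      rcases eq_or_ne W ⊥ with h | h
      · rw [h, commutator_bot_left]
      · have hlt := Coprime.commutator_lt_of_isPGroup (p := p) (hPp.to_subgroup W) (hPp.to_subgroup ⊤)
          (le_normalizer_iff.mpr fun g _ w hw => hWn.conj_mem w hw g) h
        by_contra hne
        obtain ⟨j, hj⟩ := IsPGroup.iff_card.mp (hPp.to_subgroup ⁅W, (⊤ : Subgroup P)⁆)
        have h1 : Nat.card ↥⁅W, (⊤ : Subgroup P)⁆ < p := lt_of_lt_of_le (lt_of_le_of_ne
          (Subgroup.card_le_of_le hlt.le) (fun he => hlt.ne (eq_of_le_of_card_ge hlt.le he.ge))) hWcard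
        rw [hj] at h1
        rcases Nat.eq_zero_or_pos j with rfl | hj0
        · exact hne (card_eq_one.mp (by simpa using hj))
        · exact absurd (Nat.le_self_pow hj0.ne' p) (not_le.mpr h1)
    have hBM : B.map P.subtype ≤ M := by
      rintro _ ⟨x, hx, rfl⟩
      refine ⟨x.2, by simpa using congrArg Subtype.val (hBexp x hx), fun g hg => ?_⟩
      have hw : ⁅x, (⟨g, hg⟩ : P)⁆ ∈ W := commutator_mem_commutator hx (mem_top _)
      refine haZ _ (⁅x, (⟨g, hg⟩ : P)⁆).2 ?_ fun g' hg' => ?_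
      · simpa [commutatorElement_def] using congrArg Subtype.val (hBexp _ (hBlt.le hw))
      · have h2 := commutator_mem_commutator hw (mem_top (⟨g', hg'⟩ : P))
        rw [hWcent, mem_bot, commutatorElement_eq_one_iff_commute] at h2
        exact congrArg Subtype.val h2.symm.eq
    have hle : Nat.card (B.map P.subtype) ≤ Nat.card (zpowers a) := Subgroup.card_le_of_le (hBM.trans hno)
    rw [card_map_of_injective P.subtype_injective, hBcard, Nat.card_zpowers, hao] at hle
    have := hpP.two_le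
    nlinarith
  obtain ⟨e, he, f, hf, hef⟩ := s.exists_pair hn (s.hindex n hn) (s.hdvd n hn)
  obtain ⟨t, ht, x, hx, hxa, htx⟩ : ∃ t, Line e f t ∧ ∃ x ∈ M, x ∉ zpowers a ∧ Commute t x := by
    by_contra hno
    push Not at hno
    refine hx₁a (hef.generate hnP M (zpowers a) (hMH he) (hMH hf) ?_ (fun c hc k hk hck => ?_) hx₁M)
    · exact Pair.coprime (hPp.to_le fun k hk => hk.1) hpP hnP hpn.symm
    · by_contra hka
      exact hno c hc k hk hka hck
  have hxo : orderOf x = p := orderOf_eq_prime hx.2.1 fun h => hxa (h ▸ one_mem _)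
  obtain ⟨g, hg, hgx⟩ : ∃ g ∈ P, ¬ Commute g x := by
    by_contra hno
    push Not at hno
    exact hxa (haZ x hx.1 hx.2.1 hno)
  set w := ⁅g, x⁆ with hw
  have hwa : w ∈ zpowers a := by
    rw [hw, ← commutatorElement_inv x g]
    exact inv_mem (hx.2.2 g hg)
  have hw1 : w ≠ 1 := fun h => hgx (commutatorElement_eq_one_iff_commute.mp h)
  have hwc : ∀ k ∈ P, Commute k w := fun k hk => (commute_of_mem_zpowers (hac k hk).symm hwa).symm
  have haw : a ∈ zpowers w := mem_zpowers_symm hpP hao (pow_eq_one_of_mem hao hwa) hw1 hwa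
  have hshift : ∀ i : ℕ, ∃ g' : G, g' * x * g'⁻¹ = x * a ^ i := by
    intro i
    obtain ⟨j, hj⟩ := (IsOfFinOrder.mem_powers_iff_mem_zpowers (isOfFinOrder_of_finite w)).mpr haw
    have hj' : w ^ j = a := hj
    refine ⟨g ^ (j * i), ?_⟩
    have key : ∀ k : ℕ, g ^ k * x * (g ^ k)⁻¹ = x * w ^ k := by
      intro k
      induction k with
      | zero => simp
      | succ k ih =>
        calc g ^ (k + 1) * x * (g ^ (k + 1))⁻¹ = g * (g ^ k * x * (g ^ k)⁻¹) * g⁻¹ := by rw [pow_succ']; group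
          _ = (g * x * g⁻¹) * (g * w ^ k * g⁻¹) := by rw [ih]; group
          _ = (w * x) * w ^ k := by
            rw [((hwc g hg).pow_right k).eq, mul_inv_cancel_right, hw, commutatorElement_def]; group
          _ = _ := by rw [← (hwc x hx.1).eq, mul_assoc, ← pow_succ']
    rw [key, pow_mul, hj']
  have hpair : Pair p x a := ⟨hxo, hao, hac x hx.1, fun h => hxa (mem_zpowers_symm hpP hxo
    (hao ▸ pow_orderOf_eq_one a) (ne_one_of_orderOf hpP hao) h)⟩
  have := s.hV.comm
  have := s.hV.normal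
  obtain ⟨v, hv, hv1, hxv⟩ := fixed_of_shift hpP hpair s.hV.ne
    (Pair.coprime s.hV.isPGroup (s.prime r s.rmem) hpP (s.neV hp)) haV hshift
  have htH : t ∈ H := ht.mem he hf
  have hto := hef.orderOf_line hnP ht
  have hxb : Commute x b := commute_core hpP hqP hpq hx.1 hbC
  have hvW : v ∈ V ⊓ centralizer {x} := ⟨hv, mem_centralizer_singleton_iff.mpr hxv.symm.eq⟩
  have : IsMulCommutative (V ⊓ centralizer {x} : Subgroup G) := isMulCommutative_of_le inf_le_left
  obtain ⟨hd, hdb⟩ := commutator_commute_module (s.prime r s.rmem) hnP hqP (s.neV hn).symm (s.neV hq) hqn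
    (V ⊓ centralizer {x}) (fun u hu => s.hV.exp u hu.1) hto (s.vcentralizer_normalizer htx)
    (fun u hu htu => s.fix_two hp hn hpn hxo hto htx.symm hu.1 (mem_centralizer_singleton_iff.mp hu.2).symm htu)
    (zpowers b) hbE.isPGroup
    (fun u hu => s.vcentralizer_normalizer (commute_of_mem_zpowers hxb.symm hu))
    (hbE.norm htH) (Or.inr hbE.comm) (mem_zpowers b)
  rcases eq_or_ne ⁅t, b⁆ 1 with h | h
  · exact s.triple3 hp hq hn hpq hqn hpn hxo hbo hto hxb htx.symm (commutatorElement_eq_one_iff_commute.mp h).symm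
  · exact hv1 (s.fix_two hp hq hpq hxo (hbE.orderOf_mem hqP hdb h) (commute_of_mem_zpowers hxb.symm hdb).symm
      hv hxv (hd v hvW))

/-- With both cores cyclic, `p` divides `q - 1`. -/
theorem core_dvd {p q n : ℕ} (hp : p ∈ S) (hq : q ∈ S) (hn : n ∈ S) (hpq : p ≠ q) (hpn : p ≠ n) (hqn : q ≠ n)
    (hcp : core p H ≠ ⊥) (hcq : core q H ≠ ⊥) (hcn : core n H = ⊥) : p ∣ q - 1 := by
  have hpP := s.primeS hp
  have hqP := s.primeS hq
  have : Fact p.Prime := ⟨hpP⟩
  have : Fact q.Prime := ⟨hqP⟩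
  obtain ⟨a, haC, hao, -, -, haE, -, haZ⟩ := s.core_center hp hcp
  obtain ⟨b, hbC, hbo, -, -, hbE, -, hbZ⟩ := s.core_center hq hcq
  obtain ⟨c, hcC, hgenc⟩ := s.core_gen hp hq hn hpq hpn hqn hcp hcq
  obtain ⟨d, hdC, hgend⟩ := s.core_gen hq hp hn hpq.symm hqn hpn hcq hcp
  have huniqp : ∀ x ∈ core p H, x ^ p = 1 → x ∈ zpowers a := fun x hx hxp => haZ x hx hxp fun g hg => by
    obtain ⟨i, rfl⟩ := mem_zpowers_iff.mp (hgenc g hg)
    obtain ⟨j, rfl⟩ := mem_zpowers_iff.mp (hgenc x hx)
    exact Commute.zpow_zpow_self c i j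
  have huniqq : ∀ x ∈ core q H, x ^ q = 1 → x ∈ zpowers b := fun x hx hxp => hbZ x hx hxp fun g hg => by
    obtain ⟨i, rfl⟩ := mem_zpowers_iff.mp (hgend g hg)
    obtain ⟨j, rfl⟩ := mem_zpowers_iff.mp (hgend x hx)
    exact Commute.zpow_zpow_self d i j
  by_contra hnd
  obtain ⟨x, hxH, hax⟩ := s.rank p hp H (s.hindex p hp) a (core_le p H haC) hao
  have hxb : Commute x b := commute_of_not_dvd hqP hpP hnd hbo hax.hb (conj_mem (hbE.norm hxH) (mem_zpowers b))
  have hxQ := commute_cyclic hqP hpP hpq (isPGroup_core q H) hdC hgend (core_normalizer q H hxH) hax.hb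
    fun y hy hyq => (commute_of_mem_zpowers hxb.symm (huniqq y hy hyq)).symm
  set P := core p H with hP
  set K := P ⊔ zpowers x with hK
  have hKp : IsPGroup p K := (isPGroup_core p H).to_sup_of_normal_left'
    (IsPGroup.of_card (n := 1) (by rw [Nat.card_zpowers, hax.hb, pow_one]))
    (zpowers_le.mpr (core_normalizer p H hxH))
  have hKH : H ≤ normalizer (K : Set G) := by
    have key : ∀ h ∈ H, h * x * h⁻¹ ∈ K := by
      intro h hh
      set u := ⁅h, x⁆ with hu
      have hgu : ∀ {m : ℕ} {C : G}, C ∈ core m H → (∀ y ∈ core m H, y ∈ zpowers C) → Commute u C := by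
        intro m C hC hgen
        have hconj : ∀ g ∈ H, g * C * g⁻¹ ∈ zpowers C := fun g hg => hgen _ (conj_mem (core_normalizer m H hg) hC)
        obtain ⟨i, hi⟩ := mem_zpowers_iff.mp (hconj h hh)
        obtain ⟨j, hj⟩ := mem_zpowers_iff.mp (hconj x hxH)
        have h1 : h * x * C * (h * x)⁻¹ = C ^ (i * j) := by
          calc h * x * C * (h * x)⁻¹ = h * (x * C * x⁻¹) * h⁻¹ := by group
            _ = (h * C * h⁻¹) ^ j := by rw [← hj, conj_zpow]
            _ = _ := by rw [← hi, ← zpow_mul]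
        have h2 : x * h * C * (x * h)⁻¹ = C ^ (i * j) := by
          calc x * h * C * (x * h)⁻¹ = x * (h * C * h⁻¹) * x⁻¹ := by group
            _ = (x * C * x⁻¹) ^ i := by rw [← hi, conj_zpow]
            _ = _ := by rw [← hj, ← zpow_mul, mul_comm]
        have e : u * C * u⁻¹ = C := by
          have h3 : (x * h)⁻¹ * C ^ (i * j) * (x * h) = C := by rw [← h2]; group
          obtain ⟨k, hk⟩ := mem_zpowers_iff.mp (hgen _ (conj_mem (core_normalizer m H (inv_mem (mul_mem hxH hh))) hC))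
          rw [inv_inv] at hk
          calc u * C * u⁻¹ = (h * x) * ((x * h)⁻¹ * C * (x * h)) * (h * x)⁻¹ := by
                rw [hu]; simp only [commutatorElement_def]; group
            _ = (h * x * C * (h * x)⁻¹) ^ k := by rw [← hk, conj_zpow]
            _ = (C ^ k) ^ (i * j) := by rw [h1, ← zpow_mul, ← zpow_mul, mul_comm]
            _ = ((x * h)⁻¹ * C * (x * h)) ^ (i * j) := by rw [hk]
            _ = (x * h)⁻¹ * C ^ (i * j) * (x * h) := by
                have := conj_zpow (i := i * j) (a := (x * h)⁻¹) (b := C)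
                rwa [inv_inv] at this
            _ = C := h3
        exact mul_inv_eq_iff_eq_mul.mp e
      have hucc : ∀ m ∈ S, ∀ k ∈ core m H, Commute u k := by
        intro m hm k hk
        rcases s.cases3 hp hq hn hpq hpn hqn hm with rfl | rfl | rfl
        · exact (commute_of_mem_zpowers (hgu hcC hgenc).symm (hgenc k hk)).symm
        · exact (commute_of_mem_zpowers (hgu hdC hgend).symm (hgend k hk)).symm
        · rw [hcn, mem_bot] at hk
          rw [hk]; exact Commute.one_right u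
      have huH : u ∈ H := by
        rw [hu, commutatorElement_def]
        exact mul_mem (mul_mem (mul_mem hh hxH) (inv_mem hh)) (inv_mem hxH)
      have hsup := mem_sup_of_centralizes huH (p := p) (q := q) (fun m hm => ?_) (s.commute_core hucc)
      · obtain ⟨a₁, ha₁, b₁, hb₁, hab⟩ := (Coprime.mem_sup_iff
          ((core_le q H).trans (core_normalizer p H))).mp hsup
        have hz : a₁ * x ∈ K := mul_mem (mem_sup_left ha₁) (mem_sup_right (mem_zpowers x))
        obtain ⟨j, hj⟩ := hKp ⟨_, hz⟩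
        have hj' : (a₁ * x) ^ p ^ j = 1 := by simpa using congrArg Subtype.val hj
        have hconjx : h * x * h⁻¹ = a₁ * b₁ * x := by rw [hab, hu, commutatorElement_def]; group
        have hcomm : Commute b₁ (a₁ * x) :=
          (commute_core hqP hpP hpq.symm hb₁ ha₁).mul_right (hxQ b₁ hb₁).symm
        have he : a₁ * b₁ * x = b₁ * (a₁ * x) := by
          rw [← (commute_core hqP hpP hpq.symm hb₁ ha₁).eq, mul_assoc]
        have h1 : b₁ ^ p ^ (j + 1) = 1 := by
          have h2 : (h * x * h⁻¹) ^ p ^ (j + 1) = 1 := by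
            rw [conj_pow, pow_succ' p j, pow_mul, show x ^ p = 1 by rw [← hax.hb, pow_orderOf_eq_one],
              one_pow, mul_one, mul_inv_cancel]
          rw [hconjx, he, hcomm.mul_pow, pow_succ p j, pow_mul (a₁ * x), hj', one_pow, mul_one] at h2
          exact h2
        obtain ⟨i, hi⟩ := IsPGroup.iff_orderOf.mp (isPGroup_core q H) ⟨b₁, hb₁⟩
        rw [orderOf_mk] at hi
        have hb1 : b₁ = 1 := orderOf_eq_one_iff.mp (Nat.eq_one_of_dvd_coprimes
          ((((Nat.coprime_primes hpP hqP).mpr hpq).pow_left (j + 1)).pow_right i)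
          (orderOf_dvd_of_pow_eq_one h1) (hi ▸ dvd_rfl))
        rw [hconjx, hb1, mul_one]
        exact hz
      · by_cases hmS : m ∈ S
        · rcases s.cases3 hp hq hn hpq hpn hqn hmS with rfl | rfl | rfl
          exacts [le_sup_left, le_sup_right, hcn ▸ bot_le]
        · rw [s.core_eq_bot hm hmS]; exact bot_le
    refine le_normalizer_iff.mpr fun h hh y hy => ?_
    have hle : K ≤ K.comap (MulAut.conj h).toMonoidHom := sup_le
      (fun y hy => mem_sup_left (conj_mem (core_normalizer p H hh) hy))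
      (zpowers_le.mpr (key h hh))
    exact hle hy
  have hxP : x ∈ P := le_core (sup_le (core_le p H) (zpowers_le.mpr hxH)) hKH hKp (mem_sup_right (mem_zpowers x))
  exact hax.indep (huniqp x hxP (hax.hb ▸ pow_orderOf_eq_one x))

end One

/-- No configuration faithful on a single module. -/
theorem one_false {σ S : Finset ℕ} {H V : Subgroup G} {r : ℕ} (s : One σ S H V r) : False := by
  obtain ⟨l₀, hl₀⟩ : S.Nonempty := Finset.card_pos.mp (by rw [s.scard]; norm_num)
  obtain ⟨p, hp, hcp⟩ := s.exists_core_ne_bot hl₀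
  obtain ⟨a, haC, hao, -, -, haE, -, -⟩ := s.core_center hp hcp
  obtain ⟨l, hl, m, hm, hlp, hmp, hlm⟩ := s.exists_others hp
  obtain ⟨y, hy, z, hz, hyo, hzo, hyz⟩ := s.pairs l hl m hm hlm
  have main : ∀ q n : ℕ, q ∈ S → n ∈ S → q ≠ n → q ≠ p → n ≠ p → core q H ≠ ⊥ → False := by
    intro q n hq hn hqn hqp hnp hcq
    have hcn : core n H = ⊥ := by
      by_contra hcn
      obtain ⟨b, hbC, hbo, -⟩ := s.core_center hq hcq
      obtain ⟨c, hcC, hco, -⟩ := s.core_center hn hcn
      exact s.triple3 hp hq hn hqp.symm hqn hnp.symm hao hbo hco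
        (commute_core (s.primeS hp) (s.primeS hq) hqp.symm haC hbC)
        (commute_core (s.primeS hp) (s.primeS hn) hnp.symm haC hcC)
        (commute_core (s.primeS hq) (s.primeS hn) hqn hbC hcC)
    have h1 := s.core_dvd hp hq hn hqp.symm hnp.symm hqn hcp hcq hcn
    have h2 := s.core_dvd hq hp hn hqp hqn hnp.symm hcq hcp hcn
    have := (s.primeS hp).two_le
    have := (s.primeS hq).two_le
    have := Nat.le_of_dvd (by omega) h1
    have := Nat.le_of_dvd (by omega) h2
    omega
  rcases s.dichotomy hp haE hl hm hlm hlp hmp hy hz hyo hzo hyz with ⟨-, h, -⟩ | ⟨-, h, -⟩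
  · exact main l m hl hm hlm hlp hmp (s.core_ne_bot_of_fix hl hy hyo h)
  · exact main m l hm hl hlm.symm hmp hlp (s.core_ne_bot_of_fix hm hz hzo h)

end Cfsg.Agent.H25.FourPrimes
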