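import Cfsg.Agent.H25.FourPrimes.TwoCores
import Cfsg.Agent.H25.FourPrimes.OneFinal
import Cfsg.Agent.PGroups.Basic
import Mathlib.Data.Finset.Card

/-!
A solvable group cannot have four primes pairwise, but not triply, joined by element orders.
-/

set_option autoImplicit false
set_option linter.unusedSectionVars false

namespace Cfsg.Agent.H25.FourPrimes

open Subgroup
open scoped commutatorElement Pointwise

variable {G : Type*} [Group G] [Finite G]

omit [Finite G] in
theorem orderOf_pow_of_mul {g : G} {i j : ℕ} (h : orderOf g = i * j) (hj : j ≠ 0) : orderOf (g ^ j) = i := by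
  rw [orderOf_pow' _ hj, h, Nat.gcd_eq_right (Dvd.intro_left i rfl),
    Nat.mul_div_cancel _ (Nat.pos_of_ne_zero hj)]

/-- Element orders give the condition on triples. -/
theorem noTriple_of_orders {σ : Finset ℕ} (hp : ∀ p ∈ σ, p.Prime)
    (h : ∀ p ∈ σ, ∀ q ∈ σ, ∀ r ∈ σ, p ≠ q → q ≠ r → p ≠ r → ∀ g : G, orderOf g ≠ p * q * r) :
    NoTriple σ G := by
  intro p hpσ q hqσ r hrσ hpq hqr hpr a b c ha hb hc hab hac hbc
  refine h p hpσ q hqσ r hrσ hpq hqr hpr (a * b * c) ?_
  have c1 := (Nat.coprime_primes (hp p hpσ) (hp q hqσ)).mpr hpq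
  have c2 := (Nat.coprime_primes (hp p hpσ) (hp r hrσ)).mpr hpr
  have c3 := (Nat.coprime_primes (hp q hqσ) (hp r hrσ)).mpr hqr
  have h1 : orderOf (a * b) = p * q := by
    rw [hab.orderOf_mul_eq_mul_orderOf_of_coprime (by rw [ha, hb]; exact c1), ha, hb]
  rw [(hac.mul_left hbc).orderOf_mul_eq_mul_orderOf_of_coprime (by rw [h1, hc]; exact Nat.Coprime.mul_left c2 c3),
    h1, hc]

theorem noTriple_quotient {σ : Finset ℕ} (hp : ∀ p ∈ σ, p.Prime) (hT : NoTriple σ G) (N : Subgroup G) [N.Normal] :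
    NoTriple σ (G ⧸ N) := by
  refine noTriple_of_orders hp fun p hpσ q hqσ r hrσ hpq hqr hpr x hx => ?_
  obtain ⟨g, rfl⟩ := QuotientGroup.mk'_surjective N x
  obtain ⟨e, he⟩ : p * q * r ∣ orderOf g := hx ▸ orderOf_map_dvd (QuotientGroup.mk' N) g
  have he0 : e ≠ 0 := fun h => (orderOf_pos g).ne' (by rw [he, h, mul_zero])
  have hg : orderOf (g ^ e) = p * q * r := orderOf_pow_of_mul he he0
  have h0 := (hp p hpσ).ne_zero
  have h1 := (hp q hqσ).ne_zero
  have h2 := (hp r hrσ).ne_zero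
  refine hT p hpσ q hqσ r hrσ hpq hqr hpr ((g ^ e) ^ (q * r)) ((g ^ e) ^ (p * r)) ((g ^ e) ^ (p * q)) ?_ ?_ ?_
    (Commute.pow_pow_self _ _ _) (Commute.pow_pow_self _ _ _) (Commute.pow_pow_self _ _ _)
  · exact orderOf_pow_of_mul (hg.trans (mul_assoc p q r)) (mul_ne_zero h1 h2)
  · exact orderOf_pow_of_mul (hg.trans (by ring)) (mul_ne_zero h0 h2)
  · exact orderOf_pow_of_mul (hg.trans (by ring)) (mul_ne_zero h0 h1)

/-- The property of containing independent commuting elements. -/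
def Rank (l : ℕ) (G : Type*) [Group G] : Prop :=
  ∀ K : Subgroup G, ¬ l ∣ K.index → ∀ a ∈ K, orderOf a = l → ∃ b ∈ K, Pair l a b

theorem rank_of_pairs [Group.IsSolvable G] {σ : Finset ℕ} (hσ : σ.card = 4) (hp : ∀ p ∈ σ, p.Prime)
    (hT : NoTriple σ G)
    (hpairs : ∀ l ∈ σ, ∀ m ∈ σ, l ≠ m → ∃ a b : G, orderOf a = l ∧ orderOf b = m ∧ Commute a b)
    {l : ℕ} (hl : l ∈ σ) : Rank l G := by
  classical
  intro K hK a haK hao
  have hlP := hp l hl
  have : Fact l.Prime := ⟨hlP⟩
  obtain ⟨P, hP⟩ := IsPGroup.exists_le_sylow (G := K) (p := l) (P := zpowers ⟨a, haK⟩)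
    (IsPGroup.of_card (n := 1) (by rw [Nat.card_zpowers, orderOf_mk, hao, pow_one]))
  set P' := (P : Subgroup K).map K.subtype with hP'
  have hP'p : IsPGroup l P' := P.isPGroup'.map _
  have hP'K : P' ≤ K := map_subtype_le _
  have haP : a ∈ P' := ⟨⟨a, haK⟩, hP (mem_zpowers _), rfl⟩
  have hidx : ¬ l ∣ P'.index := by
    rw [hP', index_map_subtype]
    exact fun h => (hlP.dvd_mul.mp h).elim P.not_dvd_index hK
  have ha1 : a ≠ 1 := fun h => by rw [h, orderOf_one] at hao; exact hlP.one_lt.ne hao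
  obtain ⟨z, hzP, hzo, hzc⟩ := Components.exists_central_orderOf hP'p (fun h => ha1 (mem_bot.mp (h ▸ haP)))
  have hzc' : ∀ x ∈ P', Commute x z := fun x hx => mem_centralizer_singleton_iff.mp (hzc hx)
  by_cases hza : z ∈ zpowers a
  swap
  · exact ⟨z, hP'K hzP, hao, hzo, hzc' a haP, hza⟩
  have hac : ∀ x ∈ P', Commute x a := fun x hx =>
    (commute_of_mem_zpowers (hzc' x hx).symm (mem_zpowers_symm hlP hao (hzo ▸ pow_orderOf_eq_one z)
      (fun h => by rw [h, orderOf_one] at hzo; exact hlP.one_lt.ne hzo) hza)).symm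
  by_cases hex : ∃ x ∈ P', orderOf x = l ∧ x ∉ zpowers a
  · obtain ⟨x, hx, hxo, hxa⟩ := hex
    exact ⟨x, hP'K hx, hao, hxo, (hac x hx).symm, hxa⟩
  push Not at hex
  exfalso
  -- otherwise the centralizer of `a` contains elements of all the other primes
  have key : ∀ m ∈ σ, m ≠ l → ∃ y : G, orderOf y = m ∧ Commute a y := by
    intro m hm hml
    obtain ⟨w, w', hwo, hw'o, hww⟩ := hpairs l hl m hm hml.symm
    obtain ⟨Q, hQ⟩ := IsPGroup.exists_le_sylow (G := G) (p := l) (P := zpowers w)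
      (IsPGroup.of_card (n := 1) (by rw [Nat.card_zpowers, hwo, pow_one]))
    obtain ⟨g, hg⟩ := MulAction.exists_smul_eq G Q (hP'p.toSylow hidx)
    have hwP : g * w * g⁻¹ ∈ P' := by
      have h1 : (MulAut.conj g • (Q : Subgroup G)) = P' := by
        have := congrArg Sylow.toSubgroup hg
        simpa [Sylow.smul_def, Sylow.pointwise_smul_def] using this
      rw [← h1]
      exact Subgroup.smul_mem_pointwise_smul _ _ _ (hQ (mem_zpowers w))
    have hwo' : orderOf (g * w * g⁻¹) = l := by rw [← MulAut.conj_apply, MulEquiv.orderOf_eq]; exact hwo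
    refine ⟨g * w' * g⁻¹, by rw [← MulAut.conj_apply, MulEquiv.orderOf_eq]; exact hw'o, ?_⟩
    refine commute_of_mem_zpowers ?_ (mem_zpowers_symm hlP hao (hwo' ▸ pow_orderOf_eq_one _)
      (fun h => by rw [h, orderOf_one] at hwo'; exact hlP.one_lt.ne hwo') (hex _ hwP hwo'))
    exact hww.map (MulAut.conj g).toMonoidHom
  have hcard : (σ.erase l).card = 3 := by rw [Finset.card_erase_of_mem hl, hσ]
  obtain ⟨m, n, k, hmn, hmk, hnk, he⟩ := Finset.card_eq_three.mp hcard
  have hm : m ∈ σ.erase l := by rw [he]; simp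
  have hn : n ∈ σ.erase l := by rw [he]; simp
  have hk : k ∈ σ.erase l := by rw [he]; simp
  obtain ⟨hml, hm⟩ := Finset.mem_erase.mp hm
  obtain ⟨hnl, hn⟩ := Finset.mem_erase.mp hn
  obtain ⟨hkl, hk⟩ := Finset.mem_erase.mp hk
  obtain ⟨b, hbo, hab⟩ := key m hm hml
  obtain ⟨c, hco, hac'⟩ := key n hn hnl
  obtain ⟨d, hdo, had⟩ := key k hk hkl
  exact hT.four hp hl hm hn hk hml.symm hnl.symm hkl.symm hmn hmk hnk hao hbo hco hdo hab hac' had

theorem rank_quotient {r : ℕ} (hr : r.Prime) {N : Subgroup G} [N.Normal] (hN : IsPGroup r N) {l : ℕ}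
    (hl : l.Prime) (hlr : l ≠ r) (h : Rank l G) : Rank l (G ⧸ N) := by
  intro K hK a haK hao
  have : Fact r.Prime := ⟨hr⟩
  have : Fact l.Prime := ⟨hl⟩
  set π := QuotientGroup.mk' N with hπ
  have hzero : ∀ x ∈ N, x ^ l = 1 → x = 1 := fun x hx hxl => orderOf_eq_one_iff.mp
    (Nat.eq_one_of_dvd_coprimes (Pair.coprime hN hr hl hlr) (orderOf_dvd_of_pow_eq_one hxl)
      (N.orderOf_dvd_natCard hx))
  obtain ⟨g, rfl⟩ := QuotientGroup.mk'_surjective N a
  obtain ⟨j, hj⟩ := IsPGroup.iff_card.mp hN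
  have hgl : g ^ l ∈ N := by
    rw [← QuotientGroup.eq_one_iff]
    show π (g ^ l) = 1
    rw [map_pow, ← hao]; exact pow_orderOf_eq_one _
  obtain ⟨i, hi⟩ := exists_pow_eq_self_of_coprime (x := π g) (n := r ^ j)
    (by rw [hao]; exact (((Nat.coprime_primes hl hr).mpr hlr).pow_right j).symm)
  set a' := (g ^ r ^ j) ^ i with ha'
  have ha'img : π a' = π g := by rw [ha', map_pow, map_pow, hi]
  have ha'l : a' ^ l = 1 := by
    rw [ha', pow_right_comm, pow_right_comm g, ← hj]
    have h1 : (g ^ l) ^ Nat.card N = 1 :=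
      congrArg Subtype.val (pow_card_eq_one' (G := N) (x := ⟨_, hgl⟩))
    rw [h1, one_pow]
  have ha'o : orderOf a' = l := orderOf_eq_prime ha'l fun h => by
    rw [h, map_one] at ha'img
    rw [← ha'img, orderOf_one] at hao
    exact hl.one_lt.ne hao
  obtain ⟨b, hb, hab⟩ := h (K.comap π) (by rwa [index_comap_of_surjective _ (QuotientGroup.mk'_surjective N)])
    a' (by rw [mem_comap, ha'img]; exact haK) ha'o
  have hbl : b ^ l = 1 := hab.hb ▸ pow_orderOf_eq_one b
  refine ⟨π b, hb, hao, orderOf_eq_prime (by rw [← map_pow, hbl, map_one]) fun h1 => ?_,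
    by rw [← ha'img]; exact hab.comm.map π, fun hmem => ?_⟩
  · exact hab.indep (by rw [hzero b ((QuotientGroup.eq_one_iff b).mp h1) hbl]; exact one_mem _)
  · obtain ⟨k, hk⟩ := mem_zpowers_iff.mp hmem
    rw [← ha'img, ← map_zpow] at hk
    have hmem' : b * (a' ^ k)⁻¹ ∈ N := by
      rw [← QuotientGroup.eq_one_iff]
      show π (b * (a' ^ k)⁻¹) = 1
      rw [map_mul, map_inv, hk, mul_inv_cancel]
    have := hzero _ hmem' (by
      rw [((hab.comm.zpow_left k).symm.inv_right).mul_pow, hbl, one_mul, inv_pow, ← zpow_natCast (a' ^ k),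
        ← zpow_mul, mul_comm, zpow_mul, zpow_natCast, ha'l, one_zpow, inv_one])
    rw [mul_inv_eq_one] at this
    exact hab.indep (this ▸ zpow_mem (mem_zpowers _) k)

theorem setting_hall [Group.IsSolvable G] {σ S : Finset ℕ} (hp : ∀ p ∈ σ, p.Prime) (hT : NoTriple σ G)
    (hS : S ⊆ σ) (hdvd : ∀ l ∈ S, l ∣ Nat.card G) (hrank : ∀ l ∈ S, Rank l G) {H : Subgroup G}
    (hH : Cfsg.IsPiHall (↑S : Set ℕ) H) : Setting σ S H where
  prime := hp
  triple := hT
  sub := hS
  hcard := fun l hl hd => Finset.mem_coe.mp (hH.1 l hl hd)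
  hindex := fun l hl => hH.2 l (hp l (hS hl)) hl
  hdvd := fun l hl => ((hp l (hS hl)).dvd_mul.mp (H.card_mul_index.symm ▸ hdvd l hl)).resolve_right
    (hH.2 l (hp l (hS hl)) hl)
  rank := hrank

/-- The theorem for a group all of whose primes lie in a four-element `σ`. -/
theorem four_false [Group.IsSolvable G] {σ : Finset ℕ} (hσ : σ.card = 4) (hp : ∀ p ∈ σ, p.Prime)
    (hcard : ∀ l : ℕ, l.Prime → l ∣ Nat.card G → l ∈ σ) (hT : NoTriple σ G)
    (hpairs : ∀ l ∈ σ, ∀ m ∈ σ, l ≠ m → ∃ a b : G, orderOf a = l ∧ orderOf b = m ∧ Commute a b) : False := by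
  classical
  have hdvd : ∀ l ∈ σ, l ∣ Nat.card G := fun l hl => by
    obtain ⟨m, hm, hml⟩ := Finset.exists_mem_ne (by omega : 1 < σ.card) l
    obtain ⟨a, b, ha, -, -⟩ := hpairs l hl m hm hml.symm
    exact ha ▸ orderOf_dvd_natCard a
  have hrank : ∀ l ∈ σ, Rank l G := fun l hl => rank_of_pairs hσ hp hT hpairs hl
  obtain ⟨l₀, hl₀⟩ : σ.Nonempty := Finset.card_pos.mp (by omega)
  have : Nontrivial G := by
    rw [← Finite.one_lt_card_iff_nontrivial]
    exact (hp l₀ hl₀).one_lt.trans_le (Nat.le_of_dvd Nat.card_pos (hdvd l₀ hl₀))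
  obtain ⟨U, r, hUn, hU, hrP, hUr, hUc, hmin⟩ := Hall.exists_minimal_normal_pgroup (G := G)
  have hmod : ∀ (W : Subgroup G) (t : ℕ), t.Prime → W.Normal → W ≠ ⊥ → IsPGroup t W →
      (∀ K : Subgroup G, K.Normal → K ≤ W → K = ⊥ ∨ K = W) → Module t W ∧ t ∈ σ := by
    intro W t ht hWn hW hWt hWmin
    have : Fact t.Prime := ⟨ht⟩
    obtain ⟨hWc, t', ht', hWt', hexp⟩ := Hall.minimal_normal_of_solvable hW hWmin
    obtain ⟨w, hw, hw1⟩ := (Subgroup.bot_or_exists_ne_one W).resolve_left hW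
    have hwo : orderOf w = t' := haveI : Fact t'.Prime := ⟨ht'⟩; orderOf_eq_prime (hexp w hw) hw1
    have htt : t' = t := by
      obtain ⟨k, hk⟩ := IsPGroup.iff_orderOf.mp hWt ⟨w, hw⟩
      rw [orderOf_mk, hwo] at hk
      exact (Nat.prime_dvd_prime_iff_eq ht' ht).mp (ht'.dvd_of_dvd_pow (n := k) (dvd_of_eq hk))
    subst htt
    exact ⟨⟨hWn, hWc, hexp, hW⟩, hcard t' ht' (hwo ▸ orderOf_dvd_natCard w)⟩
  obtain ⟨hUmod, hr⟩ := hmod U r hrP hUn hU hUr hmin
  have : Fact r.Prime := ⟨hrP⟩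
  by_cases htwo : ∃ t, t.Prime ∧ t ≠ r ∧ Cfsg.pCore t G ≠ ⊥
  · obtain ⟨t, htP, htr, hne⟩ := htwo
    have : Fact t.Prime := ⟨htP⟩
    obtain ⟨W, hWn, hW, hWle, hWmin⟩ := Hall.exists_minimal_normal_le (Cfsg.pCore t G) hne
    obtain ⟨hWmod, ht⟩ := hmod W t htP hWn hW (Cores.pCore_isPGroup.to_le hWle) hWmin
    set S := (σ.erase r).erase t with hSdef
    have hSσ : S ⊆ σ := fun x hx => Finset.mem_of_mem_erase (Finset.mem_of_mem_erase hx)
    have hScard : S.card = 2 := by
      rw [hSdef, Finset.card_erase_of_mem (Finset.mem_erase.mpr ⟨htr, ht⟩), Finset.card_erase_of_mem hr, hσ]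
    obtain ⟨p, q, hpq, hS⟩ := Finset.card_eq_two.mp hScard
    obtain ⟨H, hH⟩ := (Hall.hallDom_of_isSolvable (↑S : Set ℕ) G).1
    exact two_false (U := U) (W := W) (r := r) (t := t)
      { toSetting := setting_hall hp hT hSσ (fun l hl => hdvd l (hSσ hl)) (fun l hl => hrank l (hSσ hl)) hH
        hU := hUmod, hW := hWmod, rmem := hr, tmem := ht, rt := htr.symm
        rS := fun h => (Finset.mem_erase.mp (Finset.mem_of_mem_erase h)).1 rfl
        tS := fun h => (Finset.mem_erase.mp h).1 rfl } hS hpq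
  push Not at htwo
  set R := Cfsg.pCore r G with hR
  have hRp : IsPGroup r R := Cores.pCore_isPGroup
  have hFR : Cfsg.fittingSubgroup G ≤ R := by
    rw [Cores.iSup_pCore_eq_fittingSubgroup]
    refine iSup_le fun m => ?_
    rcases eq_or_ne (m : ℕ) r with h | h
    · rw [h]
    · rw [htwo m m.2 h]; exact bot_le
  set N := (frattini R).map R.subtype with hN
  have : R.Normal := inferInstance
  have hNn : N.Normal := inferInstance
  have hNp : IsPGroup r N := hRp.to_le (map_subtype_le _)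
  set π := QuotientGroup.mk' N with hπ
  set S := σ.erase r with hSdef
  have hSσ : S ⊆ σ := Finset.erase_subset r σ
  have hrS : r ∉ S := fun h => (Finset.mem_erase.mp h).1 rfl
  obtain ⟨H, hH⟩ := (Hall.hallDom_of_isSolvable (↑S : Set ℕ) G).1
  have hHcop : ∀ x ∈ H, x ∈ R → x = 1 := by
    intro x hx hxR
    obtain ⟨k, hk⟩ := IsPGroup.iff_orderOf.mp hRp ⟨x, hxR⟩
    rw [orderOf_mk] at hk
    rcases Nat.eq_zero_or_pos k with rfl | hk0
    · rw [pow_zero] at hk; exact orderOf_eq_one_iff.mp hk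
    · exact absurd (Finset.mem_coe.mp (hH.1 r hrP ((hk ▸ dvd_pow_self r hk0.ne').trans
        (H.orderOf_dvd_natCard hx)))) hrS
  have hinj : ∀ x ∈ H, π x = 1 → x = 1 := fun x hx h =>
    hHcop x hx (map_subtype_le _ ((QuotientGroup.eq_one_iff x).mp h))
  have hHall : Cfsg.IsPiHall (↑S : Set ℕ) (H.map π) := by
    refine ⟨fun l hl hd => hH.1 l hl (hd.trans (card_map_dvd H π)), fun l hl hlS hd => hH.2 l hl hlS ?_⟩
    exact hd.trans (H.index_map_dvd (QuotientGroup.mk'_surjective N))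
  have hdvd' : ∀ l ∈ S, l ∣ Nat.card (G ⧸ N) := fun l hl => by
    refine ((hp l (hSσ hl)).dvd_mul.mp ((card_eq_card_quotient_mul_card_subgroup N) ▸ hdvd l (hSσ hl))).resolve_right
      fun hd => ?_
    obtain ⟨k, hk⟩ := IsPGroup.iff_card.mp hNp
    rw [hk] at hd
    exact (Finset.mem_erase.mp hl).1 ((Nat.prime_dvd_prime_iff_eq (hp l (hSσ hl)) hrP).mp
      ((hp l (hSσ hl)).dvd_of_dvd_pow hd))
  have hset : Setting σ S (H.map π) := setting_hall hp (noTriple_quotient hp hT N) hSσ hdvd'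
    (fun l hl => rank_quotient hrP hNp (hp l (hSσ hl)) (Finset.mem_erase.mp hl).1 (hrank l (hSσ hl))) hHall
  have hRne : R ≠ ⊥ := fun h => hU (le_bot_iff.mp (h ▸ Cores.le_pCore hUr))
  have hmodR : Module r (R.map π) :=
    { normal := ‹R.Normal›.map π (QuotientGroup.mk'_surjective N)
      comm := isMulCommutative_of_commute (by
        rintro _ ⟨x, hx, rfl⟩ _ ⟨y, hy, rfl⟩
        rw [← commutatorElement_eq_one_iff_commute, ← map_commutatorElement]
        refine (QuotientGroup.eq_one_iff _).mpr ⟨⁅(⟨x, hx⟩ : R), ⟨y, hy⟩⁆,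
          PGroups.commutator_le_frattini hRp ?_, by simp [commutatorElement_def]⟩
        rw [_root_.commutator_def]
        exact commutator_mem_commutator (mem_top _) (mem_top _))
      exp := by
        rintro _ ⟨x, hx, rfl⟩
        rw [← map_pow]
        exact (QuotientGroup.eq_one_iff _).mpr ⟨_, PGroups.pow_mem_frattini hRp ⟨x, hx⟩, rfl⟩
      ne := fun h => by
        rw [Subgroup.map_eq_bot_iff, QuotientGroup.ker_mk'] at h
        have htop : frattini R = ⊤ := eq_top_iff.mpr fun x _ => by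
          obtain ⟨y, hy, hyx⟩ := h x.2
          exact (Subtype.ext hyx : y = x) ▸ hy
        have : (⊥ : Subgroup R) = ⊤ := frattini_nongenerating (by rw [htop, sup_top_eq])
        exact hRne (by
          rw [eq_bot_iff]
          intro x hx
          have : (⟨x, hx⟩ : R) ∈ (⊥ : Subgroup R) := this ▸ mem_top _
          exact mem_bot.mpr (congrArg Subtype.val (mem_bot.mp this))) }
  refine one_false (σ := σ) (S := S) (H := H.map π) (V := R.map π) (r := r)
    { toSetting := hset, hV := hmodR, rmem := hr, rS := hrS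
      scard := by rw [hSdef, Finset.card_erase_of_mem hr, hσ]
      faith := ?_, pairs := ?_ }
  · rintro _ ⟨h, hh, rfl⟩ hcen
    suffices h1 : h = 1 by rw [h1, map_one]
    refine hHcop h hh ?_
    have hcR : zpowers h ≤ centralizer (R : Set G) := by
      refine Coprime.le_centralizer_of_frattini
        (zpowers_le.mpr (by rw [normalizer_eq_top]; exact mem_top h)) ?_ fun a ha k hk => ?_
      · obtain ⟨j, hj⟩ := IsPGroup.iff_card.mp (hRp.to_subgroup (frattini R))
        rw [hj, Nat.card_zpowers]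
        refine Nat.Coprime.pow_right _ (Nat.Coprime.symm (hrP.coprime_iff_not_dvd.mpr fun hd => ?_))
        exact hrS (Finset.mem_coe.mp (hH.1 r hrP (hd.trans (H.orderOf_dvd_natCard hh))))
      · refine (QuotientGroup.eq_one_iff _).mp ?_
        show π (a * k * a⁻¹ * k⁻¹) = 1
        have hac : Commute (π a) (π k) := by
          obtain ⟨i, rfl⟩ := mem_zpowers_iff.mp ha
          rw [map_zpow]
          exact (hcen _ ⟨k, hk, rfl⟩).zpow_left i
        simp only [map_mul, map_inv]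
        rw [hac.eq, mul_inv_cancel_right, mul_inv_cancel]
    exact hFR (Cores.centralizer_fittingSubgroup_le (centralizer_le (SetLike.coe_subset_coe.mpr hFR)
      (hcR (mem_zpowers h))))
  · intro l hl m hm hlm
    obtain ⟨a, b, hao, hbo, hab⟩ := hpairs l (hSσ hl) m (hSσ hm) hlm
    have hlP := hp l (hSσ hl)
    have hmP := hp m (hSσ hm)
    have hco := (Nat.coprime_primes hlP hmP).mpr hlm
    have habo : orderOf (a * b) = l * m := by
      rw [hab.orderOf_mul_eq_mul_orderOf_of_coprime (by rw [hao, hbo]; exact hco), hao, hbo]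
    obtain ⟨H', hH', hle⟩ := (Hall.hallDom_of_isSolvable (↑S : Set ℕ) G).exists_le (U := zpowers (a * b))
      (by
        rw [Nat.card_zpowers, habo]
        exact (Hall.IsPiNumber.prime hlP hl).mul (Hall.IsPiNumber.prime hmP hm))
    obtain ⟨g, hg⟩ := (Hall.hallDom_of_isSolvable (↑S : Set ℕ) G).conj hH hH'
    have hmemH : ∀ x ∈ zpowers (a * b), g⁻¹ * x * g ∈ H := fun x hx => by
      have := hle hx
      rw [← hg] at this
      exact Hall.mem_conj_smul.mp this
    have hpw : ∀ (x y : G) (k : ℕ), orderOf x = k → Commute x y → (orderOf y).Coprime k →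
        y ∈ zpowers ((x * y) ^ k) := fun x y k hx hxy hy => by
      obtain ⟨j, hj⟩ := exists_pow_eq_self_of_coprime hy.symm
      rw [hxy.mul_pow, ← hx, pow_orderOf_eq_one, one_mul, hx]
      exact ⟨(j : ℤ), by simpa using hj⟩
    have ha : a ∈ zpowers (a * b) := by
      refine zpowers_le.mpr (pow_mem (mem_zpowers _) m) ?_
      rw [hab.eq]
      exact hpw b a m hbo hab.symm (by rw [hao]; exact hco)
    have hb : b ∈ zpowers (a * b) :=
      zpowers_le.mpr (pow_mem (mem_zpowers _) l) (hpw a b l hao hab (by rw [hbo]; exact hco.symm))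
    have hord : ∀ x ∈ H, orderOf (π x) = orderOf x := fun x hx => by
      refine Nat.dvd_antisymm (orderOf_map_dvd π x) (orderOf_dvd_of_pow_eq_one (hinj _ (pow_mem hx _) ?_))
      rw [map_pow, pow_orderOf_eq_one]
    refine ⟨π (g⁻¹ * a * g), mem_map_of_mem π (hmemH a ha), π (g⁻¹ * b * g), mem_map_of_mem π (hmemH b hb),
      ?_, ?_, Commute.map ?_ π⟩
    · rw [hord _ (hmemH a ha)]
      have := (MulAut.conj g⁻¹).orderOf_eq a
      rw [MulAut.conj_apply, inv_inv] at this
      exact this.trans hao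
    · rw [hord _ (hmemH b hb)]
      have := (MulAut.conj g⁻¹).orderOf_eq b
      rw [MulAut.conj_apply, inv_inv] at this
      exact this.trans hbo
    · show g⁻¹ * a * g * (g⁻¹ * b * g) = g⁻¹ * b * g * (g⁻¹ * a * g)
      calc g⁻¹ * a * g * (g⁻¹ * b * g) = g⁻¹ * (a * b) * g := by group
        _ = g⁻¹ * (b * a) * g := by rw [hab.eq]
        _ = _ := by group

end Cfsg.Agent.H25.FourPrimes
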