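import Cfsg.Agent.H25.FourPrimes.Setting
import Cfsg.Agent.Coprime.Action
import Cfsg.Agent.Hall.CardForms
import Mathlib.GroupTheory.GroupAction.ConjAct

/-!
The case of a single Fitting prime `r`: a group faithful on an elementary abelian `r`-group.
-/

set_option autoImplicit false
set_option linter.unusedSectionVars false

namespace Cfsg.Agent.H25.FourPrimes

open Subgroup
open scoped commutatorElement IsMulCommutative

variable {G : Type*} [Group G] [Finite G]

/-- `t` fixes no non-trivial element of `W`. -/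
def Fix (t : G) (W : Subgroup G) : Prop := ∀ w ∈ W, Commute t w → w = 1

/-- `t` centralizes `W`. -/
def Cen (t : G) (W : Subgroup G) : Prop := ∀ w ∈ W, Commute t w

/-- A non-trivial elementary abelian normal `p`-subgroup of `H`. -/
structure Elem (p : ℕ) (H A : Subgroup G) : Prop where
  le : A ≤ H
  norm : H ≤ normalizer (A : Set G)
  comm : IsMulCommutative A
  exp : ∀ a ∈ A, a ^ p = 1
  ne : A ≠ ⊥

theorem Elem.isPGroup {p : ℕ} {H A : Subgroup G} (h : Elem p H A) : IsPGroup p A :=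
  fun a => ⟨1, Subtype.ext (by simpa using h.exp a a.2)⟩

theorem Elem.orderOf_mem {p : ℕ} {H A : Subgroup G} (h : Elem p H A) (hp : p.Prime) {a : G} (ha : a ∈ A)
    (ha1 : a ≠ 1) : orderOf a = p :=
  have : Fact p.Prime := ⟨hp⟩
  orderOf_eq_prime (h.exp a ha) ha1

/-- A fixed-point-free `g` with all its powers moving `A` forces `A` to centralize `V`. -/
theorem frobenius_centralize (A V : Subgroup G) [V.Normal] [IsMulCommutative V]
    (hco : (Nat.card A).Coprime (Nat.card V)) {g : G} (hgA : g ∈ normalizer (A : Set G))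
    (hA : ∀ i, 0 < i → i < orderOf g → ∀ a ∈ A, Commute (g ^ i) a → a = 1)
    (hV : Fix g V) {a : G} (ha : a ∈ A) {v : G} (hv : v ∈ V) : Commute a v := by
  classical
  have := Fintype.ofFinite A
  let c : G → (V →* V) := fun x => (MulAut.conjNormal x : MulAut V).toMonoidHom
  have hc : ∀ x (w : V), ((c x w : V) : G) = x * w * x⁻¹ := fun x w => MulAut.conjNormal_apply x w
  have hcc : ∀ x y (w : V), c x (c y w) = c (x * y) w := fun x y w => Subtype.ext (by
    simp only [hc]; group)
  have hc1 : ∀ w : V, c 1 w = w := fun w => Subtype.ext (by simp [hc])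
  let N : V → V := fun w => ∏ b : A, c (b : G) w
  set m := orderOf g
  set w₀ : V := ⟨v, hv⟩
  set u : V := c a w₀ * w₀⁻¹ with hu
  -- the norm of a displacement vanishes
  have hN : ∀ h ∈ normalizer (A : Set G), N (c h u) = 1 := by
    intro h hh
    have e : ∀ b : A, c (b : G) (c h u) =
        c ((b * ⟨h * a * h⁻¹, (mem_normalizer_iff.mp hh a).mp ha⟩ : A) : G) (c h w₀) *
          (c (b : G) (c h w₀))⁻¹ := fun b => by
      rw [hu, map_mul, map_mul, map_inv, map_inv, hcc h a, hcc _ (h * a), hcc _ h, Subgroup.coe_mul, hcc]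
      congr 3
      group
    simp only [N, e, Finset.prod_mul_distrib, Finset.prod_inv_distrib]
    rw [mul_inv_eq_one]
    exact Fintype.prod_equiv (Equiv.mulRight _) _ _ fun b => rfl
  have hrow : ∀ b : A, ∏ i ∈ Finset.range m, c ((b : G) * g ^ i * (b : G)⁻¹) u = 1 := by
    intro b
    have hshift : ∀ x : V, c g (∏ i ∈ Finset.range m, c (g ^ i) x) = ∏ i ∈ Finset.range m, c (g ^ i) x := by
      intro x
      rw [map_prod]
      simp only [hcc, ← pow_succ']
      have h1 := Finset.prod_range_succ' (fun i => c (g ^ i) x) m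
      have h2 := Finset.prod_range_succ (fun i => c (g ^ i) x) m
      rw [h2, pow_orderOf_eq_one g, pow_zero] at h1
      exact (mul_right_cancel h1).symm
    have e : ∀ i, c ((b : G) * g ^ i * (b : G)⁻¹) u = c (b : G) (c (g ^ i) (c (b : G)⁻¹ u)) := fun i => by
      rw [hcc, hcc, mul_assoc]
    simp only [e]
    rw [← map_prod]
    have h0 : ∏ i ∈ Finset.range m, c (g ^ i) (c (b : G)⁻¹ u) = 1 := by
      refine Subtype.ext (hV _ (SetLike.coe_mem _) ?_)
      have := congrArg Subtype.val (hshift (c (b : G)⁻¹ u))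
      rw [hc, mul_inv_eq_iff_eq_mul] at this
      exact this
    rw [h0, map_one]
  have hswap : ∏ b : A, ∏ i ∈ Finset.range m, c ((b : G) * g ^ i * (b : G)⁻¹) u = 1 :=
    Finset.prod_eq_one fun b _ => hrow b
  rw [Finset.prod_comm] at hswap
  have hcol : ∀ i ∈ Finset.range m, i ≠ 0 → ∏ b : A, c ((b : G) * g ^ i * (b : G)⁻¹) u = 1 := by
    intro i hi h0
    have hgi : g ^ i ∈ normalizer (A : Set G) := pow_mem hgA i
    let f : A → A := fun b => b * ⟨g ^ i * (b : G)⁻¹ * (g ^ i)⁻¹, (mem_normalizer_iff.mp hgi _).mp (inv_mem b.2)⟩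
    have hf : Function.Bijective f := by
      refine Finite.injective_iff_bijective.mp fun b b' hbb => ?_
      have h := congrArg Subtype.val hbb
      simp only [f, Subgroup.coe_mul] at h
      have h2 : Commute (g ^ i) ((b' : G)⁻¹ * b) := by
        have h3 : ((b' : G)⁻¹ * b) * g ^ i = g ^ i * ((b' : G)⁻¹ * b) := by
          calc ((b' : G)⁻¹ * b) * g ^ i
              = (b' : G)⁻¹ * ((b : G) * (g ^ i * (b : G)⁻¹ * (g ^ i)⁻¹)) * g ^ i * (b : G) := by group
            _ = (b' : G)⁻¹ * ((b' : G) * (g ^ i * (b' : G)⁻¹ * (g ^ i)⁻¹)) * g ^ i * (b : G) := by rw [h]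
            _ = _ := by group
        exact h3.symm
      have := hA i (Nat.pos_of_ne_zero h0) (Finset.mem_range.mp hi) _ (mul_mem (inv_mem b'.2) b.2) h2
      exact Subtype.ext (inv_mul_eq_one.mp this).symm
    have e : ∀ b : A, c ((b : G) * g ^ i * (b : G)⁻¹) u = c ((f b : A) : G) (c (g ^ i) u) := fun b => by
      rw [hcc]
      congr 1
      simp only [f, Subgroup.coe_mul]
      group
    simp only [e]
    rw [hf.prod_comp (fun b : A => c (b : G) (c (g ^ i) u))]
    exact hN _ hgi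
  rw [Finset.prod_eq_single 0 hcol
    (fun h => absurd (Finset.mem_range.mpr (orderOf_pos g)) h)] at hswap
  simp only [pow_zero, mul_one, mul_inv_cancel, hc1, Finset.prod_const, Finset.card_univ,
    ← Nat.card_eq_fintype_card] at hswap
  have hu1 : u = 1 := orderOf_eq_one_iff.mp (Nat.eq_one_of_dvd_coprimes hco
    (orderOf_dvd_of_pow_eq_one hswap) (orderOf_dvd_natCard u))
  rw [hu, mul_inv_eq_one] at hu1
  have := congrArg Subtype.val hu1
  rw [hc, mul_inv_eq_iff_eq_mul] at this
  exact this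

/-- The hypotheses for a faithful module. -/
structure One (σ S : Finset ℕ) (H V : Subgroup G) (r : ℕ) : Prop extends Setting σ S H where
  hV : Module r V
  rmem : r ∈ σ
  rS : r ∉ S
  scard : S.card = 3
  faith : ∀ h ∈ H, Cen h V → h = 1
  pairs : ∀ l ∈ S, ∀ m ∈ S, l ≠ m → ∃ a ∈ H, ∃ b ∈ H, orderOf a = l ∧ orderOf b = m ∧ Commute a b

namespace One

variable {σ S : Finset ℕ} {H V : Subgroup G} {r : ℕ} (s : One σ S H V r)
include s

theorem neV {l : ℕ} (hl : l ∈ S) : l ≠ r := fun h => s.rS (h ▸ hl)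

theorem cases3 {l m n : ℕ} (hl : l ∈ S) (hm : m ∈ S) (hn : n ∈ S) (hlm : l ≠ m) (hln : l ≠ n)
    (hmn : m ≠ n) {x : ℕ} (hx : x ∈ S) : x = l ∨ x = m ∨ x = n := by
  classical
  have he : ({l, m, n} : Finset ℕ) = S := Finset.eq_of_subset_of_card_le (by simp [Finset.insert_subset_iff, hl, hm, hn])
    (by rw [s.scard, Finset.card_eq_three.mpr ⟨l, m, n, hlm, hln, hmn, rfl⟩])
  simpa [← he] using hx

theorem exists_others {p : ℕ} (hp : p ∈ S) : ∃ l ∈ S, ∃ m ∈ S, l ≠ p ∧ m ≠ p ∧ l ≠ m := by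
  classical
  have : 1 < (S.erase p).card := by rw [Finset.card_erase_of_mem hp, s.scard]; norm_num
  obtain ⟨l, hl, m, hm, hlm⟩ := Finset.one_lt_card.mp this
  exact ⟨l, Finset.mem_of_mem_erase hl, m, Finset.mem_of_mem_erase hm, (Finset.mem_erase.mp hl).1,
    (Finset.mem_erase.mp hm).1, hlm⟩

theorem triple3 {l m n : ℕ} (hl : l ∈ S) (hm : m ∈ S) (hn : n ∈ S) (hlm : l ≠ m) (hmn : m ≠ n) (hln : l ≠ n)
    {a b c : G} (ha : orderOf a = l) (hb : orderOf b = m) (hc : orderOf c = n) (hab : Commute a b)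
    (hac : Commute a c) (hbc : Commute b c) : False :=
  s.triple l (s.sub hl) m (s.sub hm) n (s.sub hn) hlm hmn hln a b c ha hb hc hab hac hbc

/-- Commuting elements of distinct prime orders fix no common vector. -/
theorem fix_two {l m : ℕ} (hl : l ∈ S) (hm : m ∈ S) (hlm : l ≠ m) {a b v : G} (ha : orderOf a = l)
    (hb : orderOf b = m) (hab : Commute a b) (hv : v ∈ V) (hav : Commute a v) (hbv : Commute b v) : v = 1 := by
  by_contra hv1
  exact s.triple l (s.sub hl) m (s.sub hm) r s.rmem hlm (s.neV hm) (s.neV hl) a b v ha hb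
    (s.hV.orderOf_mem (s.prime r s.rmem) hv hv1) hab hav hbv

/-- An element fixed-point-free on `V` centralizes what it normalizes. -/
theorem fpf_central {l m : ℕ} (hl : l ∈ S) (hm : m ∈ S) (hml : m ≠ l) {t : G}
    (ht : orderOf t = l) (htV : Fix t V) {K : Subgroup G} (hKH : K ≤ H) (hK : IsPGroup m K)
    (htK : t ∈ normalizer (K : Set G)) (hex : m ≠ 2 ∨ IsMulCommutative K) : Cen t K := by
  intro k hk
  have := s.hV.comm
  obtain ⟨hd, hdK⟩ := commutator_commute_module (s.prime r s.rmem) (s.primeS hl) (s.primeS hm) (s.neV hl).symm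
    (s.neV hm) hml V s.hV.exp ht (s.hV.mem_normalizer t) htV K hK (fun g _ => s.hV.mem_normalizer g) htK hex hk
  exact commutatorElement_eq_one_iff_commute.mp (s.faith _ (hKH hdK) hd)

theorem vcentralizer_normalizer {t x : G} (h : Commute t x) :
    t ∈ normalizer ((V ⊓ centralizer {x} : Subgroup G) : Set G) :=
  inf_centralizer_normalizer (s.hV.mem_normalizer t) h

variable {p : ℕ} {A : Subgroup G} (hp : p ∈ S) (hA : Elem p H A)
include hp hA

/-- If one of a commuting pair fixes a point of `A`, it has no fixed vector and centralizes `A`. -/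
theorem cen_of_fixed {l m : ℕ} (hl : l ∈ S) (hm : m ∈ S) (hlm : l ≠ m) (hlp : l ≠ p) (hmp : m ≠ p)
    {y z : G} (hy : y ∈ H) (hz : z ∈ H) (hyo : orderOf y = l) (hzo : orderOf z = m) (hyz : Commute y z)
    (hfix : ¬ Fix y A) : Cen y A ∧ Fix y V ∧ Fix z A := by
  have := hA.comm
  have := s.hV.comm
  simp only [Fix, not_forall] at hfix
  obtain ⟨a, ha, hya, ha1⟩ := hfix
  have hKc : IsMulCommutative (A ⊓ centralizer {y} : Subgroup G) := isMulCommutative_of_le inf_le_left
  have hWc : IsMulCommutative (V ⊓ centralizer {y} : Subgroup G) := isMulCommutative_of_le inf_le_left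
  have hyV : Fix y V := by
    intro v hv hyv
    by_contra hv1
    have hvW : v ∈ V ⊓ centralizer {y} := ⟨hv, mem_centralizer_singleton_iff.mpr hyv.symm.eq⟩
    have haK : a ∈ A ⊓ centralizer {y} := ⟨ha, mem_centralizer_singleton_iff.mpr hya.symm.eq⟩
    obtain ⟨hd, hdK⟩ := commutator_commute_module (s.prime r s.rmem) (s.primeS hm) (s.primeS hp)
      (s.neV hm).symm (s.neV hp) hmp.symm (V ⊓ centralizer {y}) (fun w hw => s.hV.exp w hw.1) hzo
      (s.vcentralizer_normalizer hyz.symm)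
      (fun w hw hzw => s.fix_two hl hm hlm hyo hzo hyz hw.1 (mem_centralizer_singleton_iff.mp hw.2).symm hzw)
      (A ⊓ centralizer {y}) (hA.isPGroup.to_le inf_le_left)
      (fun g hg => s.vcentralizer_normalizer (mem_centralizer_singleton_iff.mp hg.2))
      (inf_centralizer_normalizer (hA.norm hz) hyz.symm) (Or.inr hKc) haK
    have hd1 : ⁅z, a⁆ ≠ 1 := fun h => s.triple3 hl hm hp hlm hmp hlp hyo hzo
      (hA.orderOf_mem (s.primeS hp) ha ha1) hyz hya (commutatorElement_eq_one_iff_commute.mp h)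
    exact hv1 (s.fix_two hl hp hlp hyo (hA.orderOf_mem (s.primeS hp) hdK.1 hd1)
      (mem_centralizer_singleton_iff.mp hdK.2).symm hv hyv (hd v hvW))
  have hyA : Cen y A := s.fpf_central hl hp hlp.symm hyo hyV hA.le hA.isPGroup (hA.norm hy) (Or.inr hA.comm)
  refine ⟨hyA, hyV, fun b hb hzb => ?_⟩
  by_contra hb1
  exact s.triple3 hl hm hp hlm hmp hlp hyo hzo (hA.orderOf_mem (s.primeS hp) hb hb1) hyz (hyA b hb) hzb

/-- Of a commuting pair exactly one centralizes `A`. -/
theorem dichotomy {l m : ℕ} (hl : l ∈ S) (hm : m ∈ S) (hlm : l ≠ m) (hlp : l ≠ p) (hmp : m ≠ p)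
    {y z : G} (hy : y ∈ H) (hz : z ∈ H) (hyo : orderOf y = l) (hzo : orderOf z = m) (hyz : Commute y z) :
    (Cen y A ∧ Fix y V ∧ Fix z A) ∨ (Cen z A ∧ Fix z V ∧ Fix y A) := by
  by_cases hyA : Fix y A
  swap
  · exact Or.inl (s.cen_of_fixed hp hA hl hm hlm hlp hmp hy hz hyo hzo hyz hyA)
  by_cases hzA : Fix z A
  swap
  · exact Or.inr (s.cen_of_fixed hp hA hm hl hlm.symm hmp hlp hz hy hzo hyo hyz.symm hzA)
  exfalso
  have := s.hV.comm
  have := s.hV.normal
  have hlP := s.primeS hl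
  have hmP := s.primeS hm
  have hcop : l.Coprime m := (Nat.coprime_primes hlP hmP).mpr hlm
  have ho : orderOf (y * z) = l * m := by
    rw [hyz.orderOf_mul_eq_mul_orderOf_of_coprime (by rw [hyo, hzo]; exact hcop), hyo, hzo]
  have hpow : ∀ (x : G) (k : ℕ), (orderOf x).Prime → ¬ orderOf x ∣ k → x ∈ zpowers (x ^ k) := fun x k hx hk => by
    obtain ⟨j, hj⟩ := exists_pow_eq_self_of_coprime (hx.coprime_iff_not_dvd.mpr hk).symm
    exact ⟨(j : ℤ), by simpa using hj⟩
  obtain ⟨a, ha, ha1⟩ := (Subgroup.bot_or_exists_ne_one A).resolve_left hA.ne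
  have hcoAV : (Nat.card A).Coprime (Nat.card V) := by
    have : Fact p.Prime := ⟨s.primeS hp⟩
    obtain ⟨k, hk⟩ := IsPGroup.iff_card.mp hA.isPGroup
    rw [hk]
    exact (Pair.coprime s.hV.isPGroup (s.prime r s.rmem) (s.primeS hp) (s.neV hp)).pow_left k
  refine ha1 (s.faith a (hA.le ha) fun v hv => frobenius_centralize A V hcoAV (g := y * z)
    (mul_mem (hA.norm hy) (hA.norm hz)) ?_ ?_ ha hv)
  · intro i hi0 hi b hb hib
    rw [ho] at hi
    by_cases hli : l ∣ i
    · refine hzA b hb (commute_of_mem_zpowers ?_ (hpow z (i * l) (hzo ▸ hmP) ?_))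
      · have h1 := hib.pow_left l
        rw [← pow_mul, hyz.mul_pow, show y ^ (i * l) = 1 by rw [mul_comm, pow_mul, ← hyo, pow_orderOf_eq_one, one_pow], one_mul] at h1
        exact h1
      · rw [hzo]
        intro h
        have hmi : m ∣ i := (hcop.symm).dvd_of_dvd_mul_right h
        have := Nat.le_of_dvd hi0 (hcop.mul_dvd_of_dvd_of_dvd hli hmi)
        omega
    · refine hyA b hb (commute_of_mem_zpowers ?_ (hpow y (i * m) (hyo ▸ hlP) ?_))
      · have h1 := hib.pow_left m
        rw [← pow_mul, hyz.mul_pow, show z ^ (i * m) = 1 by rw [mul_comm, pow_mul, ← hzo, pow_orderOf_eq_one, one_pow], mul_one] at h1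
        exact h1
      · rw [hyo]
        exact fun h => hli (hcop.dvd_of_dvd_mul_right h)
  · intro v hv hgv
    have hy1 : y ∈ zpowers ((y * z) ^ m) := by
      rw [hyz.mul_pow, ← hzo, pow_orderOf_eq_one, mul_one, hzo]
      exact hpow y m (hyo ▸ hlP) (by rw [hyo]; exact fun h => hlm ((Nat.prime_dvd_prime_iff_eq hlP hmP).mp h))
    have hz1 : z ∈ zpowers ((y * z) ^ l) := by
      rw [hyz.mul_pow, ← hyo, pow_orderOf_eq_one, one_mul, hyo]
      exact hpow z l (hzo ▸ hmP) (by rw [hzo]; exact fun h => hlm ((Nat.prime_dvd_prime_iff_eq hmP hlP).mp h).symm)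
    exact s.fix_two hl hm hlm hyo hzo hyz hv (commute_of_mem_zpowers (hgv.pow_left m) hy1)
      (commute_of_mem_zpowers (hgv.pow_left l) hz1)

end One

end Cfsg.Agent.H25.FourPrimes
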