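import Cfsg.Agent.H25.FourPrimes.OneCore

/-!
Elementary abelian normal subgroups are cyclic in the faithful case.
-/

set_option autoImplicit false
set_option linter.unusedSectionVars false

namespace Cfsg.Agent.H25.FourPrimes

open Subgroup
open scoped commutatorElement

variable {G : Type*} [Group G] [Finite G] [Group.IsSolvable G]

theorem normalizer_le_normalizer_centralizer (A : Subgroup G) :
    normalizer (A : Set G) ≤ normalizer (centralizer (A : Set G) : Set G) := fun g hg => by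
  have key : ∀ g ∈ normalizer (A : Set G), ∀ x ∈ centralizer (A : Set G), g * x * g⁻¹ ∈ centralizer (A : Set G) := by
    intro g hg x hx
    refine mem_centralizer_iff.mpr fun w hw => ?_
    have h1 : g⁻¹ * w * g ∈ A := by
      have := conj_mem (inv_mem hg) hw
      rwa [inv_inv] at this
    calc w * (g * x * g⁻¹) = g * ((g⁻¹ * w * g) * x) * g⁻¹ := by group
      _ = g * (x * (g⁻¹ * w * g)) * g⁻¹ := by rw [mem_centralizer_iff.mp hx _ h1]
      _ = _ := by group
  refine mem_normalizer_iff.mpr fun x => ⟨key g hg x, fun hx => ?_⟩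
  have := key g⁻¹ (inv_mem hg) _ hx
  rwa [show g⁻¹ * (g * x * g⁻¹) * g⁻¹⁻¹ = x by group] at this

/-- A plane normalizing a cyclic group of prime order has a line centralizing it. -/
theorem Pair.exists_commute_line {l m : ℕ} (hl : l.Prime) (hm : m.Prime) (hlm : l ≠ m) {a b y : G}
    (h : Pair l a b) (hy : orderOf y = m) (ha : a ∈ normalizer (zpowers y : Set G))
    (hb : b ∈ normalizer (zpowers y : Set G)) : ∃ c, Line a b c ∧ Commute c y := by
  have hy1 : y ≠ 1 := fun h1 => by rw [h1, orderOf_one] at hy; exact hm.one_lt.ne hy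
  obtain ⟨c, hc, w, hw, hw1, hcw⟩ := h.exists_fixed hl (zpowers y) (zpowers_ne_bot.mpr hy1) ha hb
    (by rw [Nat.card_zpowers, hy]; exact (Nat.coprime_primes hl hm).mpr hlm)
  exact ⟨c, hc, (commute_of_mem_zpowers hcw.symm (mem_zpowers_symm hm hy (pow_eq_one_of_mem hy hw) hw1 hw)).symm⟩

namespace One

variable {σ S : Finset ℕ} {H V : Subgroup G} {r : ℕ} (s : One σ S H V r) {p : ℕ} {A : Subgroup G}
include s

theorem not_both_cent {l m : ℕ} (hl : l ∈ S) (hm : m ∈ S) (hlm : l ≠ m) (hlp : l ≠ p) (hmp : m ≠ p)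
    (hp : p ∈ S) (_hA : Elem p H A) {a b : G} (ha : a ∈ A) (hb : b ∈ A) (hab : Pair p a b) {y z : G}
    (hyo : orderOf y = l) (hzo : orderOf z = m) (hy : Cen y A) (hz : Cen z A) : False := by
  have := s.hV.comm
  obtain ⟨c, hc, v, hv, hv1, hcv⟩ := hab.exists_fixed (s.primeS hp) V s.hV.ne (s.hV.mem_normalizer a)
    (s.hV.mem_normalizer b) (Pair.coprime s.hV.isPGroup (s.prime r s.rmem) (s.primeS hp) (s.neV hp))
  have hcA : c ∈ A := hc.mem ha hb
  exact s.triple.four s.prime (s.sub hp) (s.sub hl) (s.sub hm) s.rmem hlp.symm hmp.symm (s.neV hp) hlm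
    (s.neV hl) (s.neV hm) (hab.orderOf_line (s.primeS hp) hc) hyo hzo
    (s.hV.orderOf_mem (s.prime r s.rmem) hv hv1) (hy c hcA).symm (hz c hcA).symm hcv

/-- No plane of another prime centralizes a non-cyclic `A`. -/
theorem not_pair_cent {l : ℕ} (hl : l ∈ S) (hlp : l ≠ p) (hp : p ∈ S) (_hA : Elem p H A) {a b : G}
    (ha : a ∈ A) (hb : b ∈ A) (hab : Pair p a b) {e f : G} (hef : Pair l e f) (he : Cen e A) (hf : Cen f A) :
    False := by
  have := s.hV.comm
  obtain ⟨c, hc, v, hv, hv1, hcv⟩ := hab.exists_fixed (s.primeS hp) V s.hV.ne (s.hV.mem_normalizer a)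
    (s.hV.mem_normalizer b) (Pair.coprime s.hV.isPGroup (s.prime r s.rmem) (s.primeS hp) (s.neV hp))
  have hcA : c ∈ A := hc.mem ha hb
  have hvW : v ∈ V ⊓ centralizer {c} := ⟨hv, mem_centralizer_singleton_iff.mpr hcv.symm.eq⟩
  have : IsMulCommutative (V ⊓ centralizer {c} : Subgroup G) := isMulCommutative_of_le inf_le_left
  obtain ⟨d, hd, w, hw, hw1, hdw⟩ := hef.exists_fixed (s.primeS hl) (V ⊓ centralizer {c})
    (fun h => hv1 (Subgroup.mem_bot.mp (h ▸ hvW)))
    (s.vcentralizer_normalizer (he c hcA)) (s.vcentralizer_normalizer (hf c hcA))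
    (Nat.Coprime.coprime_dvd_right (card_dvd_of_le inf_le_left)
      (Pair.coprime s.hV.isPGroup (s.prime r s.rmem) (s.primeS hl) (s.neV hl)))
  exact hw1 (s.fix_two hl hp hlp (hef.orderOf_line (s.primeS hl) hd) (hab.orderOf_line (s.primeS hp) hc)
    (hd.commute (he c hcA) (hf c hcA)) hw.1 hdw (mem_centralizer_singleton_iff.mp hw.2).symm)

theorem noncyclic_aux {l m : ℕ} (hl : l ∈ S) (hm : m ∈ S) (hlm : l ≠ m) (hlp : l ≠ p) (hmp : m ≠ p)
    (hp : p ∈ S) (hA : Elem p H A) {a b : G} (ha : a ∈ A) (hb : b ∈ A) (hab : Pair p a b)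
    {y : G} (hy : y ∈ H) (hyo : orderOf y = l) (hyA : Cen y A) : False := by
  classical
  have hlP := s.primeS hl
  have hmP := s.primeS hm
  have : Fact l.Prime := ⟨hlP⟩
  have : Fact m.Prime := ⟨hmP⟩
  have := hA.comm
  have noS : ∀ x, orderOf x = m → ¬ Cen x A := fun x hx hxA =>
    s.not_both_cent hl hm hlm hlp hmp hp hA ha hb hab hyo hx hyA hxA
  have uniq : ∀ e f : G, orderOf e = l → orderOf f = l → Commute e f → Cen e A → Cen f A → f ∈ zpowers e :=
    fun e f heo hfo hef he hf => by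
      by_contra hne
      exact s.not_pair_cent hl hlp hp hA ha hb hab ⟨heo, hfo, hef, hne⟩ he hf
  -- a plane of order `m ^ 2` normalizes a group of order `l` centralizing `A`
  obtain ⟨e, he, f, hf, hef⟩ := s.exists_pair hm (s.hindex m hm) (s.hdvd m hm)
  set C := H ⊓ centralizer (A : Set G) with hCdef
  have hCen : ∀ {x}, x ∈ C → Cen x A := fun {x} hx w hw => (mem_centralizer_iff.mp hx.2 w hw).symm
  have hHC : H ≤ normalizer (C : Set G) := fun g hg => mem_normalizer_iff.mpr fun x =>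
    and_congr ⟨fun hx => H.mul_mem (H.mul_mem hg hx) (H.inv_mem hg), fun hx => (H.mul_mem_cancel_left hg).mp
      ((H.mul_mem_cancel_right (H.inv_mem hg)).mp hx)⟩
      (mem_normalizer_iff.mp (normalizer_le_normalizer_centralizer A (hA.norm hg)) x)
  set E := zpowers e ⊔ zpowers f with hE
  have hEH : E ≤ H := sup_le (zpowers_le.mpr he) (zpowers_le.mpr hf)
  have hcard : m.Coprime (Nat.card C) := hmP.coprime_iff_not_dvd.mpr fun hd => by
    obtain ⟨x, hx⟩ := exists_prime_orderOf_dvd_card' (G := C) m hd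
    exact noS x ((Subgroup.orderOf_coe x).trans hx) (hCen x.2)
  have hEcard : (Nat.card E).Coprime (Nat.card C) := by
    have hP : IsPGroup m E := by
      refine IsPGroup.to_sup_of_normal_right'
        (IsPGroup.of_card (n := 1) (by rw [Nat.card_zpowers, hef.ha, pow_one]))
        (IsPGroup.of_card (n := 1) (by rw [Nat.card_zpowers, hef.hb, pow_one])) ?_
      refine le_trans ?_ (centralizer_le_normalizer _)
      exact zpowers_le.mpr (mem_centralizer_iff.mpr fun x hx => (commute_of_mem_zpowers hef.comm.symm hx).eq)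
    obtain ⟨k, hk⟩ := IsPGroup.iff_card.mp hP
    rw [hk]
    exact hcard.pow_left k
  obtain ⟨Q, hQ⟩ := Coprime.exists_invariant_sylow (A := E) (K := C) (hEH.trans hHC) hEcard
    (Or.inr (Hall.isSolvable_of_le le_top (inferInstance : Group.IsSolvable (⊤ : Subgroup G)))) l
  set Qc := (Q : Subgroup C).map C.subtype with hQc
  have hQC : Qc ≤ C := map_subtype_le _
  have hQp : IsPGroup l Qc := Q.isPGroup'.map _
  have hQne : Qc ≠ ⊥ := fun h => by
    rw [hQc, map_eq_bot_iff_of_injective _ C.subtype_injective] at h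
    refine Q.ne_bot_of_dvd_card ?_ h
    rw [← hyo]
    exact C.orderOf_dvd_natCard ⟨hy, mem_centralizer_iff.mpr fun w hw => (hyA w hw).symm.eq⟩
  obtain ⟨y', hy'Q, hy'o, hy'c⟩ := Components.exists_central_orderOf hQp hQne
  have hy'A : Cen y' A := hCen (hQC hy'Q)
  have hy'H : y' ∈ H := (hQC hy'Q).1
  have hnY : ∀ g ∈ E, g ∈ normalizer (zpowers y' : Set G) := by
    intro g hg
    have hg' := conj_mem (hQ hg) hy'Q
    have h1 : g * y' * g⁻¹ ∈ zpowers y' := uniq y' _ hy'o
      (by rw [← MulAut.conj_apply, MulEquiv.orderOf_eq]; exact hy'o)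
      (mem_centralizer_singleton_iff.mp (hy'c hg')).symm hy'A (hCen (hQC hg'))
    have he : zpowers (g * y' * g⁻¹) = zpowers y' := eq_of_le_of_card_ge (zpowers_le.mpr h1) (by
      rw [Nat.card_zpowers, Nat.card_zpowers, ← MulAut.conj_apply, MulEquiv.orderOf_eq])
    refine mem_normalizer_iff.mpr fun x => ⟨fun hx => ?_, fun hx => ?_⟩
    · obtain ⟨j, rfl⟩ := mem_zpowers_iff.mp hx
      rw [← conj_zpow]; exact zpow_mem h1 j
    · rw [← he] at hx
      obtain ⟨j, hj⟩ := mem_zpowers_iff.mp hx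
      rw [conj_zpow] at hj
      exact ⟨j, mul_left_cancel (mul_right_cancel hj)⟩
  have heE : e ∈ E := mem_sup_left (mem_zpowers e)
  have hfE : f ∈ E := mem_sup_right (mem_zpowers f)
  -- a line centralizing `y'`
  obtain ⟨z, hz, hzy⟩ := hef.exists_commute_line hmP hlP hlm.symm hy'o (hnY e heE) (hnY f hfE)
  -- a line fixing a point of `A` divides `l - 1`
  have hml : m ∣ l - 1 := by
    by_contra hnd
    obtain ⟨c, hc, w, hw, hw1, hcw⟩ := hef.exists_fixed hmP A hA.ne (hA.norm he) (hA.norm hf)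
      (Pair.coprime hA.isPGroup (s.primeS hp) hmP hmp)
    have hco := hef.orderOf_line hmP hc
    have hcy : Commute c y' := commute_of_not_dvd hlP hmP hnd hy'o hco
      (conj_mem (hnY c (hc.mem heE hfE)) (mem_zpowers y'))
    rcases s.dichotomy hp hA hl hm hlm hlp hmp hy'H (hc.mem he hf) hy'o hco hcy.symm with ⟨-, -, h⟩ | ⟨h, -, -⟩
    · exact hw1 (h w hw hcw)
    · exact noS c hco h
  have hl2 : l ≠ 2 := by
    rintro rfl
    exact hmP.one_lt.not_ge (Nat.le_of_dvd one_pos (by simpa using hml))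
  have hlm1 : ¬ l ∣ m - 1 := fun h => by
    have h1 := Nat.le_of_dvd (by have := hmP.two_le; omega) h
    have h2 := Nat.le_of_dvd (by have := hlP.two_le; omega) hml
    omega
  obtain ⟨f₀, hf₀H, hf₀⟩ := s.rank l hl H (s.hindex l hl) y' hy'H hy'o
  -- a Hall subgroup of the centralizer of `y'`
  set K := H ⊓ centralizer {y'} with hK
  have hfK : f₀ ∈ K := ⟨hf₀H, mem_centralizer_singleton_iff.mpr hf₀.comm.symm.eq⟩
  have hzK : z ∈ K := ⟨hz.mem he hf, mem_centralizer_singleton_iff.mpr hzy.eq⟩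
  obtain ⟨L₀, hL₀, hfL⟩ := (Hall.hallDom_of_isSolvable (↑({l, m} : Finset ℕ) : Set ℕ) K).exists_le
    (U := zpowers (⟨f₀, hfK⟩ : K)) (by
      rw [Nat.card_zpowers, orderOf_mk, hf₀.hb]
      exact Hall.IsPiNumber.prime hlP (by simp))
  set L := L₀.map K.subtype with hLdef
  have hLK : L ≤ K := map_subtype_le _
  have hLH : L ≤ H := hLK.trans inf_le_left
  have hLy : ∀ x ∈ L, Commute x y' := fun x hx => mem_centralizer_singleton_iff.mp (hLK hx).2
  have hf₀L : f₀ ∈ L := ⟨⟨f₀, hfK⟩, hfL (mem_zpowers _), rfl⟩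
  have hmL : m ∣ Nat.card L := by
    rw [hLdef, card_map_of_injective K.subtype_injective]
    refine (hmP.dvd_mul.mp (L₀.card_mul_index.symm ▸ ?_)).resolve_right (hL₀.2 m hmP (by simp))
    rw [← hef.orderOf_line hmP hz]
    exact K.orderOf_dvd_natCard hzK
  have hLπ : ∀ k : ℕ, k.Prime → k ∣ Nat.card L → k = l ∨ k = m := fun k hk hd => by
    rw [hLdef, card_map_of_injective K.subtype_injective] at hd
    simpa using hL₀.1 k hk hd
  have hfixm : ∀ x ∈ L, orderOf x = m → Fix x A := fun x hx hxo => by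
    rcases s.dichotomy hp hA hl hm hlm hlp hmp hy'H (hLH hx) hy'o hxo (hLy x hx).symm with ⟨-, -, h⟩ | ⟨h, -, -⟩
    · exact h
    · exact absurd h (noS x hxo)
  -- no normal `m`-subgroup
  have hcm : core m L = ⊥ := by
    by_contra hne
    obtain ⟨Z, hZle, hLZ, hZc, hZexp, hZcent, -, hZne⟩ := exists_omega_center m L
    obtain ⟨x, hxZ, hxo⟩ := hZne hne
    have hxL : x ∈ L := core_le m L (hZle hxZ)
    have hZx : ∀ w ∈ Z, w ∈ zpowers x := fun w hw => by
      by_contra hwx
      have hwo : orderOf w = m := orderOf_eq_prime (hZexp w hw) (fun h => hwx (h ▸ one_mem _))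
      have hP : Pair m x w := ⟨hxo, hwo, hZcent w hw x (hZle hxZ), hwx⟩
      have hwL : w ∈ L := core_le m L (hZle hw)
      obtain ⟨c, hc, u, hu, hu1, hcu⟩ := hP.exists_fixed hmP A hA.ne (hA.norm (hLH hxL)) (hA.norm (hLH hwL))
        (Pair.coprime hA.isPGroup (s.primeS hp) hmP hmp)
      exact hu1 (hfixm c (hc.mem hxL hwL) (hP.orderOf_line hmP hc) u hu hcu)
    have hfx : Commute f₀ x := commute_of_not_dvd hmP hlP hlm1 hxo hf₀.hb
      (hZx _ (conj_mem (hLZ hf₀L) hxZ))
    rcases s.dichotomy hp hA hl hm hlm hlp hmp hf₀H (hLH hxL) hf₀.hb hxo hfx with ⟨h, -, -⟩ | ⟨h, -, -⟩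
    · exact hf₀.indep (uniq y' f₀ hy'o hf₀.hb hf₀.comm hy'A h)
    · exact noS x hxo h
  -- an element of order `m` centralizes the `l`-core
  obtain ⟨z₀, hz₀o⟩ := exists_prime_orderOf_dvd_card' (G := L) m hmL
  have hzo : orderOf (z₀ : G) = m := (Subgroup.orderOf_coe z₀).trans hz₀o
  have hzc : ∀ k ∈ core l L, Commute (z₀ : G) k := by
    intro k hk
    set Q₀ := core l L
    have hQ₀p : IsPGroup l Q₀ := isPGroup_core l L
    have hdd := fun k (hk : k ∈ Q₀) => commutator_commute_module (s.primeS hp) hmP hlP hmp.symm hlp hlm A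
      hA.exp hzo (hA.norm (hLH z₀.2)) (hfixm z₀ z₀.2 hzo) Q₀ hQ₀p
      (fun g hg => hA.norm (hLH (core_le l L hg))) (core_normalizer l L z₀.2) (Or.inl hl2) hk
    set D := Q₀ ⊓ centralizer (A : Set G)
    have hDp : IsPGroup l D := hQ₀p.to_le inf_le_left
    have hDy : ∀ x ∈ D, x ^ l = 1 → x ∈ zpowers y' := fun x hx hxl => by
      rcases eq_or_ne x 1 with rfl | hx1
      · exact one_mem _
      · exact uniq y' x hy'o (orderOf_eq_prime hxl hx1) (hLy x (core_le l L hx.1)).symm hy'A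
          fun w hw => (mem_centralizer_iff.mp hx.2 w hw).symm
    obtain ⟨c, hcD, hgen⟩ := exists_gen_of_unique hl2 hDp hy'o hDy
    have hzD : ∀ x ∈ D, Commute (z₀ : G) x := commute_cyclic hlP hmP hlm.symm hDp hcD hgen (by
        exact mem_normalizer_iff.mpr fun x => and_congr (mem_normalizer_iff.mp (core_normalizer l L z₀.2) x)
          (mem_normalizer_iff.mp (normalizer_le_normalizer_centralizer A (hA.norm (hLH z₀.2))) x)) hzo
      fun x hx hxl => (commute_of_mem_zpowers (hLy z₀ z₀.2).symm (hDy x hx hxl)).symm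
    set d := ⁅(z₀ : G), k⁆ with hd
    have hdD : d ∈ D := ⟨(hdd k hk).2, mem_centralizer_iff.mpr fun w hw => ((hdd k hk).1 w hw).symm.eq⟩
    have hconj : ∀ n : ℕ, (z₀ : G) ^ n * k * ((z₀ : G) ^ n)⁻¹ = d ^ n * k := by
      intro n
      induction n with
      | zero => simp
      | succ n ih =>
        calc (z₀ : G) ^ (n + 1) * k * ((z₀ : G) ^ (n + 1))⁻¹
            = (z₀ : G) * ((z₀ : G) ^ n * k * ((z₀ : G) ^ n)⁻¹) * (z₀ : G)⁻¹ := by rw [pow_succ']; group
          _ = ((z₀ : G) * d ^ n) * k * (z₀ : G)⁻¹ := by rw [ih]; group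
          _ = (d ^ n * z₀) * k * (z₀ : G)⁻¹ := by rw [((hzD d hdD).pow_right n).eq]
          _ = _ := by rw [pow_succ, hd, commutatorElement_def]; group
    have hdm : d ^ m = 1 := by
      have := hconj m
      rw [show (z₀ : G) ^ m = 1 by rw [← hzo, pow_orderOf_eq_one], one_mul, inv_one, mul_one] at this
      exact mul_eq_right.mp this.symm
    obtain ⟨j, hj⟩ := IsPGroup.iff_orderOf.mp hDp ⟨d, hdD⟩
    rw [orderOf_mk] at hj
    have hd1 : d = 1 := orderOf_eq_one_iff.mp (Nat.eq_one_of_dvd_coprimes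
      (((Nat.coprime_primes hlP hmP).mpr hlm).pow_left j) (hj ▸ dvd_rfl) (orderOf_dvd_of_pow_eq_one hdm))
    exact commutatorElement_eq_one_iff_commute.mp hd1
  have hcore := mem_core_of_centralizes hmP z₀.2 hzo (fun k hk x hx => ?_)
  · rw [hcm, mem_bot] at hcore
    rw [hcore, orderOf_one] at hzo
    exact hmP.one_lt.ne hzo
  · have : Fact k.Prime := ⟨hk⟩
    obtain ⟨j, hj⟩ := IsPGroup.iff_card.mp (isPGroup_core k L)
    rcases Nat.eq_zero_or_pos j with rfl | hj0
    · rw [pow_zero, card_eq_one] at hj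
      rw [hj, mem_bot] at hx
      rw [hx]; exact Commute.one_right _
    · rcases hLπ k hk ((hj ▸ dvd_pow_self k hj0.ne').trans (card_dvd_of_le (core_le k L))) with rfl | rfl
      · exact hzc x hx
      · rw [hcm, mem_bot] at hx
        rw [hx]; exact Commute.one_right _

/-- Elementary abelian normal subgroups of `H` are cyclic. -/
theorem elem_cyclic (hp : p ∈ S) (hA : Elem p H A) {a : G} (ha : a ∈ A) (ha1 : a ≠ 1) {b : G} (hb : b ∈ A) :
    b ∈ zpowers a := by
  by_contra hba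
  have hab : Pair p a b := ⟨hA.orderOf_mem (s.primeS hp) ha ha1,
    hA.orderOf_mem (s.primeS hp) hb (fun h => hba (h ▸ one_mem _)),
    (haveI := hA.comm; congrArg Subtype.val (mul_comm' (⟨a, ha⟩ : A) ⟨b, hb⟩)), hba⟩
  obtain ⟨l, hl, m, hm, hlp, hmp, hlm⟩ := s.exists_others hp
  obtain ⟨y, hy, z, hz, hyo, hzo, hyz⟩ := s.pairs l hl m hm hlm
  rcases s.dichotomy hp hA hl hm hlm hlp hmp hy hz hyo hzo hyz with ⟨h, -, -⟩ | ⟨h, -, -⟩
  · exact s.noncyclic_aux hl hm hlm hlp hmp hp hA ha hb hab hy hyo h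
  · exact s.noncyclic_aux hm hl hlm.symm hmp hlp hp hA ha hb hab hz hzo h

end One

end Cfsg.Agent.H25.FourPrimes
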