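import Cfsg.Agent.H25.FourPrimes.Cores

/-!
The hypotheses carried to a Hall subgroup `H` for the primes in `S`.
-/

set_option autoImplicit false
set_option linter.unusedSectionVars false

namespace Cfsg.Agent.H25.FourPrimes

open Subgroup
open scoped commutatorElement

variable {G : Type*} [Group G]

/-- The hypotheses on a Hall subgroup for the primes in `S`. -/
structure Setting (σ S : Finset ℕ) (H : Subgroup G) : Prop where
  prime : ∀ l ∈ σ, l.Prime
  triple : NoTriple σ G
  sub : S ⊆ σ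
  hcard : ∀ l : ℕ, l.Prime → l ∣ Nat.card H → l ∈ S
  hindex : ∀ l ∈ S, ¬ l ∣ H.index
  hdvd : ∀ l ∈ S, l ∣ Nat.card H
  rank : ∀ l ∈ S, ∀ K : Subgroup G, ¬ l ∣ K.index → ∀ a ∈ K, orderOf a = l → ∃ b ∈ K, Pair l a b

/-- A non-trivial normal abelian subgroup of exponent `r`. -/
structure Module (r : ℕ) (W : Subgroup G) : Prop where
  normal : W.Normal
  comm : IsMulCommutative W
  exp : ∀ w ∈ W, w ^ r = 1
  ne : W ≠ ⊥

variable [Finite G]

theorem Module.mem_normalizer {r : ℕ} {W : Subgroup G} (h : Module r W) (g : G) :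
    g ∈ normalizer (W : Set G) := by
  have := h.normal
  rw [normalizer_eq_top]
  exact mem_top g

theorem Module.isPGroup {r : ℕ} {W : Subgroup G} (h : Module r W) : IsPGroup r W :=
  fun w => ⟨1, Subtype.ext (by simpa using h.exp w w.2)⟩

theorem Module.orderOf_mem {r : ℕ} {W : Subgroup G} (h : Module r W) (hr : r.Prime) {w : G} (hw : w ∈ W)
    (hw1 : w ≠ 1) : orderOf w = r :=
  have : Fact r.Prime := ⟨hr⟩
  orderOf_eq_prime (h.exp w hw) hw1

/-- The centralizer of `x` in a module. -/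
theorem inf_centralizer_normalizer {W : Subgroup G} {t x : G} (ht : t ∈ normalizer (W : Set G))
    (htx : Commute t x) : t ∈ normalizer ((W ⊓ centralizer {x} : Subgroup G) : Set G) := by
  refine mem_normalizer_iff.mpr fun w => and_congr (mem_normalizer_iff.mp ht w) ?_
  change w ∈ centralizer {x} ↔ t * w * t⁻¹ ∈ centralizer {x}
  simp only [mem_centralizer_singleton_iff]
  constructor
  · intro h
    calc t * w * t⁻¹ * x = t * w * (t⁻¹ * x) := by group
      _ = t * (w * x) * t⁻¹ := by rw [htx.inv_left.eq]; group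
      _ = t * (x * w) * t⁻¹ := by rw [h]
      _ = x * (t * w * t⁻¹) := by
        calc t * (x * w) * t⁻¹ = t * x * w * t⁻¹ := by group
          _ = x * t * w * t⁻¹ := by rw [htx.eq]
          _ = _ := by group
  · intro h
    calc w * x = t⁻¹ * (t * w * t⁻¹ * (t * x)) := by group
      _ = t⁻¹ * ((t * w * t⁻¹ * x) * t) := by rw [htx.eq]; group
      _ = t⁻¹ * ((x * (t * w * t⁻¹)) * t) := by rw [h]
      _ = t⁻¹ * (x * t) * w := by group
      _ = x * w := by rw [← htx.eq]; group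

theorem isMulCommutative_of_le {K L : Subgroup G} (hKL : K ≤ L) [IsMulCommutative L] : IsMulCommutative K :=
  ⟨⟨fun a b => Subtype.ext (show (a : G) * b = b * a from
    congrArg Subtype.val (mul_comm' (⟨a, hKL a.2⟩ : L) ⟨b, hKL b.2⟩))⟩⟩

theorem isMulCommutative_of_commute {K : Subgroup G} (h : ∀ x ∈ K, ∀ y ∈ K, Commute x y) :
    IsMulCommutative K := ⟨⟨fun a b => Subtype.ext (h a a.2 b b.2).eq⟩⟩

namespace Setting

variable {σ S : Finset ℕ} {H : Subgroup G} (s : Setting σ S H)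
include s

theorem primeS {l : ℕ} (hl : l ∈ S) : l.Prime := s.prime l (s.sub hl)

theorem exists_orderOf {l : ℕ} (hl : l ∈ S) : ∃ a ∈ H, orderOf a = l := by
  have : Fact l.Prime := ⟨s.primeS hl⟩
  obtain ⟨a, ha⟩ := exists_prime_orderOf_dvd_card' (G := H) l (s.hdvd l hl)
  exact ⟨a, a.2, (Subgroup.orderOf_coe a).trans ha⟩

/-- A Sylow subgroup containing the core. -/
theorem exists_sylow {l : ℕ} (hl : l ∈ S) :
    ∃ P : Subgroup G, IsPGroup l P ∧ P ≤ H ∧ core l H ≤ P ∧ P ≠ ⊥ ∧ ¬ l ∣ P.index := by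
  have : Fact l.Prime := ⟨s.primeS hl⟩
  obtain ⟨P, hP⟩ := (Cores.pCore_isPGroup (p := l) (G := H)).exists_le_sylow
  have hidx : ¬ l ∣ ((P : Subgroup H).map H.subtype).index := by
    rw [index_map_subtype]
    exact fun h => ((s.primeS hl).dvd_mul.mp h).elim P.not_dvd_index (s.hindex l hl)
  refine ⟨(P : Subgroup H).map H.subtype, P.isPGroup'.map _, map_subtype_le _, map_mono hP, ?_, hidx⟩
  intro h
  rw [map_eq_bot_iff_of_injective _ H.subtype_injective] at h
  exact P.ne_bot_of_dvd_card (s.hdvd l hl) h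

/-- A subgroup of full `l`-part meeting a `Pair` inside. -/
theorem exists_pair {l : ℕ} (hl : l ∈ S) {K : Subgroup G} (hK : ¬ l ∣ K.index) (hd : l ∣ Nat.card K) :
    ∃ a ∈ K, ∃ b ∈ K, Pair l a b := by
  have : Fact l.Prime := ⟨s.primeS hl⟩
  obtain ⟨a, ha⟩ := exists_prime_orderOf_dvd_card' (G := K) l hd
  obtain ⟨b, hb, hab⟩ := s.rank l hl K hK a a.2 ((Subgroup.orderOf_coe a).trans ha)
  exact ⟨a, a.2, b, hb, hab⟩

variable [Group.IsSolvable G]

theorem exists_core_ne_bot {l : ℕ} (hl : l ∈ S) : ∃ m ∈ S, core m H ≠ ⊥ := by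
  by_contra hno
  push Not at hno
  obtain ⟨a, haH, hao⟩ := s.exists_orderOf hl
  have := mem_core_of_centralizes (s.primeS hl) haH hao fun m hm k hk => by
    by_cases hmS : m ∈ S
    · rw [hno m hmS, mem_bot] at hk
      rw [hk]; exact Commute.one_right a
    · have : Fact m.Prime := ⟨hm⟩
      obtain ⟨j, hj⟩ := IsPGroup.iff_card.mp (isPGroup_core m H)
      rcases Nat.eq_zero_or_pos j with rfl | hj0
      · rw [pow_zero, card_eq_one] at hj
        rw [hj, mem_bot] at hk
        rw [hk]; exact Commute.one_right a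
      · exact absurd (s.hcard m hm ((hj ▸ dvd_pow_self m hj0.ne').trans
          (card_dvd_of_le (core_le m H)))) hmS
  rw [hno l hl, mem_bot] at this
  rw [this, orderOf_one] at hao
  exact (s.primeS hl).one_lt.ne hao

omit [Group.IsSolvable G] in
/-- Cores for primes outside `S` are trivial. -/
theorem core_eq_bot {m : ℕ} (hm : m.Prime) (hmS : m ∉ S) : core m H = ⊥ := by
  have : Fact m.Prime := ⟨hm⟩
  obtain ⟨j, hj⟩ := IsPGroup.iff_card.mp (isPGroup_core m H)
  rcases Nat.eq_zero_or_pos j with rfl | hj0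
  · rwa [pow_zero, card_eq_one] at hj
  · exact absurd (s.hcard m hm ((hj ▸ dvd_pow_self m hj0.ne').trans (card_dvd_of_le (core_le m H)))) hmS

omit [Group.IsSolvable G] in
theorem commute_core {x : G} (h : ∀ m ∈ S, ∀ k ∈ core m H, Commute x k) :
    ∀ m : ℕ, m.Prime → ∀ k ∈ core m H, Commute x k := fun m hm k hk => by
  by_cases hmS : m ∈ S
  · exact h m hmS k hk
  · rw [s.core_eq_bot hm hmS, mem_bot] at hk
    rw [hk]; exact Commute.one_right x

end Setting

/-- The central elements of order dividing `p` of the core form an abelian normal subgroup of exponent `p`. -/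
theorem exists_omega_center (p : ℕ) [Fact p.Prime] (H : Subgroup G) :
    ∃ Z : Subgroup G, Z ≤ core p H ∧ H ≤ normalizer (Z : Set G) ∧ IsMulCommutative Z ∧ (∀ z ∈ Z, z ^ p = 1) ∧
      (∀ z ∈ Z, ∀ g ∈ core p H, Commute g z) ∧
      (∀ z ∈ core p H, z ^ p = 1 → (∀ g ∈ core p H, Commute g z) → z ∈ Z) ∧
      (core p H ≠ ⊥ → ∃ z ∈ Z, orderOf z = p) := by
  let Z : Subgroup G :=
    { carrier := {z | z ∈ core p H ∧ z ^ p = 1 ∧ ∀ g ∈ core p H, Commute g z}
      one_mem' := ⟨one_mem _, one_pow _, fun g _ => Commute.one_right g⟩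
      mul_mem' := fun {a b} ha hb => ⟨mul_mem ha.1 hb.1, by
        rw [(hb.2.2 a ha.1).mul_pow, ha.2.1, hb.2.1, mul_one],
        fun g hg => (ha.2.2 g hg).mul_right (hb.2.2 g hg)⟩
      inv_mem' := fun {a} ha => ⟨inv_mem ha.1, by rw [inv_pow, ha.2.1, inv_one],
        fun g hg => (ha.2.2 g hg).inv_right⟩ }
  refine ⟨Z, fun z hz => hz.1, ?_, isMulCommutative_of_commute fun x hx y hy => hy.2.2 x hx.1,
    fun z hz => hz.2.1, fun z hz => hz.2.2, fun z h1 h2 h3 => ⟨h1, h2, h3⟩, fun hne => ?_⟩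
  · refine le_normalizer_iff.mpr fun h hh z hz => ⟨conj_mem (core_normalizer p H hh) hz.1, ?_, fun g hg => ?_⟩
    · rw [conj_pow, hz.2.1, mul_one, mul_inv_cancel]
    · have := hz.2.2 _ (conj_mem (core_normalizer p H (inv_mem hh)) hg)
      rw [inv_inv] at this
      show g * (h * z * h⁻¹) = h * z * h⁻¹ * g
      calc g * (h * z * h⁻¹) = h * ((h⁻¹ * g * h) * z) * h⁻¹ := by group
        _ = h * (z * (h⁻¹ * g * h)) * h⁻¹ := by rw [this.eq]
        _ = _ := by group
  · obtain ⟨t, ht, hto, htc⟩ := Components.exists_central_orderOf (isPGroup_core p H) hne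
    exact ⟨t, ⟨ht, hto ▸ pow_orderOf_eq_one t,
      fun g hg => mem_centralizer_singleton_iff.mp (htc hg)⟩, hto⟩

end Cfsg.Agent.H25.FourPrimes
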