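import Cfsg.Agent.H25.FourPrimes.Setting

/-!
The case of normal subgroups for two primes `r` and `t`.
-/

set_option autoImplicit false
set_option linter.unusedSectionVars false

namespace Cfsg.Agent.H25.FourPrimes

open Subgroup
open scoped commutatorElement

variable {G : Type*} [Group G] [Finite G]

/-- Two modules and a Hall subgroup for the other primes. -/
structure Two (σ S : Finset ℕ) (H U W : Subgroup G) (r t : ℕ) : Prop extends Setting σ S H where
  hU : Module r U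
  hW : Module t W
  rmem : r ∈ σ
  tmem : t ∈ σ
  rt : r ≠ t
  rS : r ∉ S
  tS : t ∉ S

namespace Two

variable {σ S : Finset ℕ} {H U W : Subgroup G} {r t : ℕ} (s : Two σ S H U W r t)
include s

theorem symm : Two σ S H W U t r :=
  { toSetting := s.toSetting, hU := s.hW, hW := s.hU, rmem := s.tmem, tmem := s.rmem, rt := s.rt.symm,
    rS := s.tS, tS := s.rS }

theorem neU {l : ℕ} (hl : l ∈ S) : l ≠ r := fun h => s.rS (h ▸ hl)

theorem commute_modules {u w : G} (hu : u ∈ U) (hw : w ∈ W) : Commute u w := by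
  refine commutatorElement_eq_one_iff_commute.mp (eq_one_of_pgroups (s.prime r s.rmem) (s.prime t s.tmem)
    s.rt s.hU.isPGroup s.hW.isPGroup ?_ ?_)
  · rw [commutatorElement_def, show u * w * u⁻¹ * w⁻¹ = u * (w * u⁻¹ * w⁻¹) by group]
    exact mul_mem hu (conj_mem (s.hU.mem_normalizer w) (inv_mem hu))
  · rw [commutatorElement_def]
    exact mul_mem (conj_mem (s.hW.mem_normalizer u) hw) (inv_mem hw)

/-- An element of prime order does not fix vectors in both modules. -/
theorem not_both {l : ℕ} (hl : l ∈ S) {a u w : G} (ha : orderOf a = l) (hu : u ∈ U) (hu1 : u ≠ 1)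
    (hw : w ∈ W) (hw1 : w ≠ 1) (hau : Commute a u) (haw : Commute a w) : False :=
  s.triple l (s.sub hl) r s.rmem t s.tmem (s.neU hl) s.rt (s.symm.neU hl) a u w ha
    (s.hU.orderOf_mem (s.prime r s.rmem) hu hu1) (s.hW.orderOf_mem (s.prime t s.tmem) hw hw1)
    hau haw (s.commute_modules hu hw)

theorem exists_fixed {l : ℕ} (hl : l ∈ S) {a b : G} (h : Pair l a b) :
    ∃ c, Line a b c ∧ ∃ u ∈ U, u ≠ 1 ∧ Commute c u := by
  have := s.hU.comm
  exact h.exists_fixed (s.primeS hl) U s.hU.ne (s.hU.mem_normalizer a) (s.hU.mem_normalizer b)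
    (Pair.coprime s.hU.isPGroup (s.prime r s.rmem) (s.primeS hl) (s.neU hl))

theorem no_common {l : ℕ} (hl : l ∈ S) {a b : G} (h : Pair l a b) {u : G} (hu : u ∈ U)
    (hau : Commute a u) (hbu : Commute b u) : u = 1 := by
  by_contra hu1
  obtain ⟨c, hc, w, hw, hw1, hcw⟩ := s.symm.exists_fixed hl h
  exact s.not_both hl (h.orderOf_line (s.primeS hl) hc) hu hu1 hw hw1 (hc.commute hau hbu) hcw

theorem orderOf_mem {p : ℕ} (hp : p ∈ S) {K : Subgroup G} (hexp : ∀ k ∈ K, k ^ p = 1) {k : G} (hk : k ∈ K)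
    (hk1 : k ≠ 1) : orderOf k = p :=
  have : Fact p.Prime := ⟨s.primeS hp⟩
  orderOf_eq_prime (hexp k hk) hk1

/-- A line fixing a vector has no displacements in an abelian group normalized by the plane. -/
theorem not_fixed {l p : ℕ} (hl : l ∈ S) (hp : p ∈ S) (hpl : p ≠ l) {e f : G} (h : Pair l e f)
    {K : Subgroup G} [IsMulCommutative K] (hexp : ∀ k ∈ K, k ^ p = 1)
    (hfK : f ∈ normalizer (K : Set G)) {k : G} (hk : k ∈ K) (hek : Commute e k) (hd1 : ⁅f, k⁆ ≠ 1)
    {u : G} (hu : u ∈ U) (hu1 : u ≠ 1) (heu : Commute e u) : False := by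
  set B := K ⊓ centralizer {e} with hB
  have hfB : f ∈ normalizer (B : Set G) := inf_centralizer_normalizer hfK h.comm.symm
  have hBp : IsPGroup p B := fun b => ⟨1, Subtype.ext (by simpa using hexp b b.2.1)⟩
  have : IsMulCommutative U := s.hU.comm
  have : IsMulCommutative (U ⊓ centralizer {e} : Subgroup G) := isMulCommutative_of_le inf_le_left
  obtain ⟨hd, hdB⟩ := commutator_commute_module (s.prime r s.rmem) (s.primeS hl) (s.primeS hp) (s.neU hl).symm
    (s.neU hp) hpl (U ⊓ centralizer {e}) (fun w hw => s.hU.exp w hw.1) h.hb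
    (inf_centralizer_normalizer (s.hU.mem_normalizer f) h.comm.symm)
    (fun w hw hfw => s.no_common hl h hw.1 (mem_centralizer_singleton_iff.mp hw.2).symm hfw)
    B hBp (fun g hg => inf_centralizer_normalizer (s.hU.mem_normalizer g)
      (mem_centralizer_singleton_iff.mp hg.2)) hfB (Or.inr (isMulCommutative_of_le inf_le_left))
    (k := k) ⟨hk, mem_centralizer_singleton_iff.mpr hek.symm.eq⟩
  exact s.triple l (s.sub hl) p (s.sub hp) r s.rmem hpl.symm (s.neU hp) (s.neU hl) e ⁅f, k⁆ u h.ha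
    (s.orderOf_mem hp hexp hdB.1 hd1) (s.hU.orderOf_mem (s.prime r s.rmem) hu hu1)
    (mem_centralizer_singleton_iff.mp hdB.2).symm heu
    (hd u ⟨hu, mem_centralizer_singleton_iff.mpr heu.symm.eq⟩)

theorem centralize_U {l p : ℕ} (hl : l ∈ S) (hp : p ∈ S) (hpl : p ≠ l) {e f : G} (h : Pair l e f)
    {K : Subgroup G} [IsMulCommutative K] (hexp : ∀ k ∈ K, k ^ p = 1)
    (heK : e ∈ normalizer (K : Set G)) (hfK : f ∈ normalizer (K : Set G)) {k : G} (hk : k ∈ K)
    (hek : Commute e k) (hd1 : ⁅f, k⁆ ≠ 1) {u : G} (hu : u ∈ U) : Commute ⁅f, k⁆ u := by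
  obtain ⟨c, hc, w, hw, hw1, hcw⟩ := s.symm.exists_fixed hl (h.swap (s.primeS hl))
  have hew : ∀ v ∈ W, v ≠ 1 → ¬ Commute e v := fun v hv hv1 hev =>
    s.symm.not_fixed hl hp hpl h hexp hfK hk hek hd1 hv hv1 hev
  rcases hc with rfl | ⟨i, rfl⟩
  · exact absurd hcw (hew w hw hw1)
  have hcomm : ⁅f * e ^ i, k⁆ = ⁅f, k⁆ := by
    rw [commutatorElement_def, commutatorElement_def]
    calc f * e ^ i * k * (f * e ^ i)⁻¹ * k⁻¹ = f * (e ^ i * k * (e ^ i)⁻¹) * f⁻¹ * k⁻¹ := by group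
      _ = _ := by rw [(hek.pow_left i).eq, mul_inv_cancel_right]
  have : IsMulCommutative U := s.hU.comm
  have hcK : f * e ^ i ∈ normalizer (K : Set G) := mul_mem hfK (pow_mem heK i)
  have := commutator_commute_module (s.prime r s.rmem) (s.primeS hl) (s.primeS hp) (s.neU hl).symm
    (s.neU hp) hpl U s.hU.exp ((h.swap (s.primeS hl)).orderOf_line (s.primeS hl) (Or.inr ⟨i, rfl⟩))
    (s.hU.mem_normalizer _)
    (fun v hv hcv => by
      by_contra hv1
      exact s.not_both hl ((h.swap (s.primeS hl)).orderOf_line (s.primeS hl) (Or.inr ⟨i, rfl⟩)) hv hv1 hw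
        hw1 hcv hcw)
    K (fun b => ⟨1, Subtype.ext (by simpa using hexp b b.2)⟩) (fun g _ => s.hU.mem_normalizer g) hcK
    (Or.inr inferInstance) hk
  exact hcomm ▸ this.1 u hu

theorem commute_of_line {l p : ℕ} (hl : l ∈ S) (hp : p ∈ S) (hpl : p ≠ l) {e f : G} (h : Pair l e f)
    {K : Subgroup G} [IsMulCommutative K] (hexp : ∀ k ∈ K, k ^ p = 1)
    (heK : e ∈ normalizer (K : Set G)) (hfK : f ∈ normalizer (K : Set G)) {k : G} (hk : k ∈ K)
    (hek : Commute e k) : Commute f k := by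
  by_contra hne
  have hd1 : ⁅f, k⁆ ≠ 1 := fun h1 => hne (commutatorElement_eq_one_iff_commute.mp h1)
  obtain ⟨u, hu, hu1⟩ := (Subgroup.bot_or_exists_ne_one U).resolve_left s.hU.ne
  obtain ⟨w, hw, hw1⟩ := (Subgroup.bot_or_exists_ne_one W).resolve_left s.hW.ne
  have hdK : ⁅f, k⁆ ∈ K := by
    rw [commutatorElement_def]
    exact mul_mem (conj_mem hfK hk) (inv_mem hk)
  exact s.triple p (s.sub hp) r s.rmem t s.tmem (s.neU hp) s.rt (s.symm.neU hp) ⁅f, k⁆ u w
    (s.orderOf_mem hp hexp hdK hd1) (s.hU.orderOf_mem (s.prime r s.rmem) hu hu1)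
    (s.hW.orderOf_mem (s.prime t s.tmem) hw hw1)
    (s.centralize_U hl hp hpl h hexp heK hfK hk hek hd1 hu)
    (s.symm.centralize_U hl hp hpl h hexp heK hfK hk hek hd1 hw) (s.commute_modules hu hw)

/-- A plane centralizes every elementary abelian group of another prime it normalizes. -/
theorem pair_centralizes {l p : ℕ} (hl : l ∈ S) (hp : p ∈ S) (hpl : p ≠ l) {a b : G} (h : Pair l a b)
    {K : Subgroup G} [IsMulCommutative K] (hexp : ∀ k ∈ K, k ^ p = 1)
    (haK : a ∈ normalizer (K : Set G)) (hbK : b ∈ normalizer (K : Set G)) {k : G} (hk : k ∈ K) :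
    Commute a k ∧ Commute b k := by
  have hK : K ≤ centralizer {a} ⊓ centralizer {b} := by
    refine h.generate (s.primeS hl) K _ haK hbK
      (Pair.coprime (fun b => ⟨1, Subtype.ext (by simpa using hexp b b.2)⟩) (s.primeS hp) (s.primeS hl) hpl.symm)
      fun c hc k hk hck => ?_
    suffices Commute a k ∧ Commute b k from
      ⟨mem_centralizer_singleton_iff.mpr this.1.symm.eq, mem_centralizer_singleton_iff.mpr this.2.symm.eq⟩
    rcases hc with rfl | ⟨i, rfl⟩
    · exact ⟨s.commute_of_line hl hp hpl (h.swap (s.primeS hl)) hexp hbK haK hk hck, hck⟩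
    · have hp' : Pair l (a * b ^ i) b := ⟨h.orderOf_line (s.primeS hl) (Or.inr ⟨i, rfl⟩), h.hb,
        h.comm.mul_left ((Commute.refl b).pow_left i), fun hb => by
          have hb' := mem_zpowers_symm (s.primeS hl) (h.orderOf_line (s.primeS hl) (Or.inr ⟨i, rfl⟩))
            (h.hb ▸ pow_orderOf_eq_one b) (fun h1 => h.indep (by rw [h1]; exact one_mem _)) hb
          refine (h.swap (s.primeS hl)).indep ?_
          have := mul_mem hb' (inv_mem (pow_mem (mem_zpowers b) i))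
          rwa [mul_inv_cancel_right] at this⟩
      have hb2 : Commute b k := s.commute_of_line hl hp hpl hp' hexp (mul_mem haK (pow_mem hbK i)) hbK hk hck
      refine ⟨?_, hb2⟩
      have h2 := hck.mul_left (hb2.pow_left i).inv_left
      rwa [mul_inv_cancel_right] at h2
  exact ⟨(mem_centralizer_singleton_iff.mp (hK hk).1).symm, (mem_centralizer_singleton_iff.mp (hK hk).2).symm⟩

/-- Elementary abelian normal subgroups of `H` act semiregularly. -/
theorem semiregular {p : ℕ} (hp : p ∈ S) (hcard : ∃ l ∈ S, l ≠ p) {K : Subgroup G}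
    [IsMulCommutative K] (hexp : ∀ k ∈ K, k ^ p = 1) (hHK : H ≤ normalizer (K : Set G)) {k : G} (hk : k ∈ K)
    (hk1 : k ≠ 1) {u : G} (hu : u ∈ U) (hku : Commute k u) : u = 1 := by
  by_contra hu1
  obtain ⟨l, hl, hlp⟩ := hcard
  obtain ⟨a, ha, b, hb, hab⟩ := s.exists_pair hl (s.hindex l hl) (s.hdvd l hl)
  obtain ⟨hak, hbk⟩ := s.pair_centralizes hl hp hlp.symm hab hexp (hHK ha) (hHK hb) hk
  have : IsMulCommutative U := s.hU.comm
  have : IsMulCommutative (U ⊓ centralizer {k} : Subgroup G) := isMulCommutative_of_le inf_le_left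
  obtain ⟨c, hc, v, hv, hv1, hcv⟩ := hab.exists_fixed (s.primeS hl) (U ⊓ centralizer {k})
    (fun h => hu1 (Subgroup.mem_bot.mp (h ▸ (⟨hu, mem_centralizer_singleton_iff.mpr hku.symm.eq⟩ :
      u ∈ U ⊓ centralizer {k}))))
    (inf_centralizer_normalizer (s.hU.mem_normalizer a) hak)
    (inf_centralizer_normalizer (s.hU.mem_normalizer b) hbk)
    (Nat.Coprime.coprime_dvd_right (card_dvd_of_le inf_le_left)
      (Pair.coprime s.hU.isPGroup (s.prime r s.rmem) (s.primeS hl) (s.neU hl)))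
  exact s.triple l (s.sub hl) p (s.sub hp) r s.rmem hlp (s.neU hp) (s.neU hl) c k v
    (hab.orderOf_line (s.primeS hl) hc) (s.orderOf_mem hp hexp hk hk1)
    (s.hU.orderOf_mem (s.prime r s.rmem) hv.1 hv1) (hc.commute hak hbk) hcv
    (mem_centralizer_singleton_iff.mp hv.2).symm

/-- Elements of order `p` of a `p`-subgroup lie in `⟨a⟩` when its central ones do. -/
theorem unique_of_central {p : ℕ} (hp : p ∈ S) {a : G} (ha : orderOf a = p)
    (hfU : ∀ u ∈ U, Commute a u → u = 1) (hfW : ∀ w ∈ W, Commute a w → w = 1) {P : Subgroup G}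
    (hP : IsPGroup p P) (hca : ∀ g ∈ P, Commute g a) (_haP : a ∈ P)
    (hZ : ∀ x ∈ P, x ^ p = 1 → (∀ g ∈ P, Commute g x) → x ∈ zpowers a) {x : G} (hx : x ∈ P)
    (hxp : x ^ p = 1) : x ∈ zpowers a := by
  have : Fact p.Prime := ⟨s.primeS hp⟩
  by_contra hxa
  obtain ⟨y, hyP, hyo, hya, hyc, hsh⟩ := exists_shift hP ha hca hZ hx hxp hxa
  have hpair : Pair p y a := ⟨hyo, ha, hyc, fun h => hya (mem_zpowers_symm (s.primeS hp) hyo
    (ha ▸ pow_orderOf_eq_one a) (fun h1 => by rw [h1, orderOf_one] at ha; exact (s.primeS hp).one_lt.ne ha) h)⟩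
  have hsh' : ∀ i : ℕ, ∃ g : G, g * y * g⁻¹ = y * a ^ i := fun i => (hsh i).imp fun g hg => hg.2
  have := s.hU.comm
  have := s.hW.comm
  have := s.hU.normal
  have := s.hW.normal
  obtain ⟨u, hu, hu1, hyu⟩ := fixed_of_shift (s.primeS hp) hpair s.hU.ne
    (Pair.coprime s.hU.isPGroup (s.prime r s.rmem) (s.primeS hp) (s.neU hp)) hfU hsh'
  obtain ⟨w, hw, hw1, hyw⟩ := fixed_of_shift (s.primeS hp) hpair s.hW.ne
    (Pair.coprime s.hW.isPGroup (s.prime t s.tmem) (s.primeS hp) (s.symm.neU hp)) hfW hsh'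
  exact s.not_both hp hyo hu hu1 hw hw1 hyu hyw

/-- The structure of a non-trivial core. -/
theorem core_structure {p q : ℕ} (hp : p ∈ S) (hq : q ∈ S) (hpq : p ≠ q) (hne : core p H ≠ ⊥) :
    ∃ a ∈ core p H, orderOf a = p ∧ (∀ x ∈ core p H, x ^ p = 1 → x ∈ zpowers a) ∧
      (∃ Z : Subgroup G, a ∈ Z ∧ IsMulCommutative Z ∧ (∀ z ∈ Z, z ^ p = 1) ∧ H ≤ normalizer (Z : Set G)) ∧
      ∃ e ∈ H, orderOf e = p ∧ e ∉ zpowers a ∧ ∀ x ∈ core p H, Commute e x := by
  have : Fact p.Prime := ⟨s.primeS hp⟩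
  obtain ⟨Z, hZle, hHZ, hZc, hZexp, hZcent, hZmem, hZne⟩ := exists_omega_center p H
  obtain ⟨a, haZ, hao⟩ := hZne hne
  have ha1 : a ≠ 1 := fun h => by rw [h, orderOf_one] at hao; exact (s.primeS hp).one_lt.ne hao
  have hother : ∃ l ∈ S, l ≠ p := ⟨q, hq, hpq.symm⟩
  have hfU : ∀ z ∈ Z, z ≠ 1 → ∀ u ∈ U, Commute z u → u = 1 := fun z hz hz1 u hu h =>
    s.semiregular hp hother hZexp hHZ hz hz1 hu h
  have hfW : ∀ z ∈ Z, z ≠ 1 → ∀ u ∈ W, Commute z u → u = 1 := fun z hz hz1 u hu h =>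
    s.symm.semiregular hp hother hZexp hHZ hz hz1 hu h
  have hZa : ∀ z ∈ Z, z ∈ zpowers a := fun z hz => by
    by_contra hza
    have hpair : Pair p a z := ⟨hao, s.orderOf_mem hp hZexp hz (fun h => hza (h ▸ one_mem _)),
      hZcent z hz a (hZle haZ), hza⟩
    obtain ⟨c, hc, u, hu, hu1, hcu⟩ := s.exists_fixed hp hpair
    have hcZ : c ∈ Z := hc.mem haZ hz
    exact hu1 (hfU c hcZ (fun h => by
      have := hpair.orderOf_line (s.primeS hp) hc
      rw [h, orderOf_one] at this; exact (s.primeS hp).one_lt.ne this) u hu hcu)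
  have huni : ∀ x ∈ core p H, x ^ p = 1 → x ∈ zpowers a := fun x hx hxp =>
    s.unique_of_central hp hao (hfU a haZ ha1) (hfW a haZ ha1) (isPGroup_core p H)
      (hZcent a haZ) (hZle haZ) (fun y hy hyp hyc => hZa y (hZmem y hy hyp hyc)) hx hxp
  refine ⟨a, hZle haZ, hao, huni, ⟨Z, haZ, hZc, hZexp, hHZ⟩, ?_⟩
  obtain ⟨P, hPp, hPH, hcP, -, hPi⟩ := s.exists_sylow hp
  -- `a` is central in a Sylow subgroup
  have hcaP : ∀ g ∈ P, Commute g a := fun g hg => by
    obtain ⟨k, hk⟩ := IsPGroup.iff_orderOf.mp hPp ⟨g, hg⟩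
    rw [orderOf_mk] at hk
    have hcon : g * a * g⁻¹ ∈ zpowers a := hZa _ (conj_mem (hHZ (hPH hg)) haZ)
    obtain ⟨i, hi⟩ := mem_zpowers_iff.mp hcon
    by_contra hne'
    have hga : g ∈ normalizer (zpowers a : Set G) := by
      refine mem_normalizer_iff.mpr fun x => ⟨fun hx => ?_, fun hx => ?_⟩
      · obtain ⟨j, rfl⟩ := mem_zpowers_iff.mp hx
        rw [← conj_zpow]; exact zpow_mem hcon j
      · have he : zpowers (g * a * g⁻¹) = zpowers a := eq_of_le_of_card_ge (zpowers_le.mpr hcon) (by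
          rw [Nat.card_zpowers, Nat.card_zpowers, ← MulAut.conj_apply, MulEquiv.orderOf_eq])
        rw [← he] at hx
        obtain ⟨j, hj⟩ := mem_zpowers_iff.mp hx
        rw [conj_zpow] at hj
        exact ⟨j, mul_left_cancel (mul_right_cancel hj)⟩
    have hA : IsPGroup p (zpowers a) := IsPGroup.of_card (n := 1) (by rw [Nat.card_zpowers, hao, pow_one])
    have hG : IsPGroup p (zpowers g) := IsPGroup.of_card (n := k) (by rw [Nat.card_zpowers, hk])
    have hlt : ⁅zpowers a, zpowers g⁆ < zpowers a := Coprime.commutator_lt_of_isPGroup hA hG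
      (zpowers_le.mpr hga) (zpowers_ne_bot.mpr ha1)
    have h1 : ⁅a, g⁆ ∈ ⁅zpowers a, zpowers g⁆ := commutator_mem_commutator (mem_zpowers a) (mem_zpowers g)
    have hcardlt : Nat.card ↥⁅zpowers a, zpowers g⁆ < p := by
      rw [← hao, ← Nat.card_zpowers a]
      exact lt_of_le_of_ne (Subgroup.card_le_of_le hlt.le) fun he => hlt.ne (eq_of_le_of_card_ge hlt.le he.ge)
    have h2 : Nat.card ↥⁅zpowers a, zpowers g⁆ = 1 :=
      ((Nat.dvd_prime (s.primeS hp)).mp (hao ▸ Nat.card_zpowers a ▸ card_dvd_of_le hlt.le)).resolve_right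
        hcardlt.ne
    rw [card_eq_one] at h2
    rw [h2, mem_bot, commutatorElement_eq_one_iff_commute] at h1
    exact hne' h1.symm
  obtain ⟨b, hb, hab⟩ := s.rank p hp P hPi a (hcP (hZle haZ)) hao
  by_contra hno
  push Not at hno
  refine hab.indep (s.unique_of_central hp hao (hfU a haZ ha1) (hfW a haZ ha1) hPp hcaP (hcP (hZle haZ))
    (fun x hx hxp hxc => ?_) hb (hab.hb ▸ pow_orderOf_eq_one b))
  by_contra hxa
  obtain ⟨y, hy, hyne⟩ := hno x (hPH hx) (orderOf_eq_prime hxp (fun h => hxa (h ▸ one_mem _))) hxa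
  exact hyne (hxc y (hcP hy)).symm

/-- Both cores are non-trivial and one is cyclic: a contradiction. -/
theorem false_of_cores {p q : ℕ} (hp : p ∈ S) (hq : q ∈ S) (hpq : p ≠ q) (hS : ∀ m ∈ S, m = p ∨ m = q)
    (hp2 : p ≠ 2) (hcp : core p H ≠ ⊥) (hcq : core q H ≠ ⊥) [Group.IsSolvable G] : False := by
  have : Fact p.Prime := ⟨s.primeS hp⟩
  obtain ⟨a, haC, hao, huni, ⟨Z, haZ, hZc, hZexp, hHZ⟩, -⟩ := s.core_structure hp hq hpq hcp
  obtain ⟨n, hnC, hno, huniq, -, e, heH, heo, hen, hec⟩ := s.core_structure hq hp hpq.symm hcq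
  obtain ⟨c, hcC, hgen⟩ := exists_gen_of_unique hp2 (isPGroup_core p H) hao huni
  have hpair : Pair q e n := ⟨heo, hno, hec n hnC, fun h => hen (mem_zpowers_symm (s.primeS hq) heo
    (hno ▸ pow_orderOf_eq_one n)
    (fun h1 => by rw [h1, orderOf_one] at hno; exact (s.primeS hq).one_lt.ne hno) h)⟩
  have hea : Commute e a :=
    (s.pair_centralizes hq hp hpq hpair hZexp (hHZ heH) (hHZ (core_le q H hnC)) haZ).1
  have heP := commute_cyclic (s.primeS hp) (s.primeS hq) hpq.symm (isPGroup_core p H) hcC hgen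
    (core_normalizer p H heH) heo fun x hx hxp =>
      (commute_of_mem_zpowers hea.symm (huni x hx hxp)).symm
  have := mem_core_of_centralizes (s.primeS hq) heH heo (s.commute_core fun m hm k hk => by
    rcases hS m hm with rfl | rfl
    exacts [heP k hk, hec k hk])
  exact hen (huniq e this (heo ▸ pow_orderOf_eq_one e))

theorem core_ne_bot {p q : ℕ} (hp : p ∈ S) (hq : q ∈ S) (hpq : p ≠ q) (hS : ∀ m ∈ S, m = p ∨ m = q)
    [Group.IsSolvable G] (hcp : core p H ≠ ⊥) : core q H ≠ ⊥ := by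
  intro hcq
  obtain ⟨a, haC, hao, huni, -, e, heH, heo, hea, hec⟩ := s.core_structure hp hq hpq hcp
  refine hea (huni e (mem_core_of_centralizes (s.primeS hp) heH heo (s.commute_core fun m hm k hk => ?_))
    (heo ▸ pow_orderOf_eq_one e))
  rcases hS m hm with rfl | rfl
  · exact hec k hk
  · rw [hcq, mem_bot] at hk
    rw [hk]; exact Commute.one_right e

end Two

/-- No configuration with normal subgroups for two primes. -/
theorem two_false [Group.IsSolvable G] {σ S : Finset ℕ} {H U W : Subgroup G} {r t : ℕ}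
    (s : Two σ S H U W r t) {p q : ℕ} (hS : S = {p, q}) (hpq : p ≠ q) : False := by
  have hp : p ∈ S := by simp [hS]
  have hq : q ∈ S := by simp [hS]
  have hS' : ∀ m ∈ S, m = p ∨ m = q := fun m hm => by simpa [hS] using hm
  obtain ⟨hcp, hcq⟩ : core p H ≠ ⊥ ∧ core q H ≠ ⊥ := by
    obtain ⟨m, hm, hne⟩ := s.exists_core_ne_bot hp
    rcases hS' m hm with rfl | rfl
    · exact ⟨hne, s.core_ne_bot hp hq hpq hS' hne⟩
    · exact ⟨s.core_ne_bot hq hp hpq.symm (fun m hm => (hS' m hm).symm) hne, hne⟩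
  rcases eq_or_ne p 2 with h2 | h2
  · exact s.false_of_cores hq hp hpq.symm (fun m hm => (hS' m hm).symm) (fun h => hpq (h2.trans h.symm)) hcq hcp
  · exact s.false_of_cores hp hq hpq hS' h2 hcp hcq

end Cfsg.Agent.H25.FourPrimes
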